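import Groth.Agent.TorIndBCLib.Pairing
import Groth.Agent.DTenLib.BCBound
import Groth.Agent.DRingLib.Devissage

/-!
# The evaluation map at a pseudo-coherent object and an algebra of finite tor dimension
-/

set_option autoImplicit false
set_option linter.all false
set_option maxHeartbeats 1000000

universe u

open CategoryTheory CategoryTheory.Limits MonoidalCategory HomologicalComplex Pretriangulated Opposite
open Groth.Agent DTen

attribute [local instance] HasDerivedCategory.standard

noncomputable section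

namespace TorIndBCLib

open DTenLib Groth.Agent.DualCxLib

variable {R R' : Type u} [CommRing R] [CommRing R'] [Algebra R R']

/-- The restricted unit is the module in degree zero. -/
def inDIso : Dual.inD R R' ≅ rU (algebraMap R R') :=
  let φ := algebraMap R R'
  let N := (ModuleCat.restrictScalars φ).obj (𝟙_ (ModuleCat.{u} R'))
  let l : R' ≃ₗ[R] N :=
    { toFun := fun x => (x : R')
      invFun := fun x => (x : R')
      map_add' := fun _ _ => rfl
      map_smul' := fun r x => Algebra.smul_def r x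
      left_inv := fun _ => rfl
      right_inv := fun _ => rfl }
  (DerivedCategory.singleFunctor (ModuleCat.{u} R) 0).mapIso l.toModuleIso ≪≫
    (DerivedCategory.singleFunctorIsoCompQ (ModuleCat.{u} R) 0).app N ≪≫
    DerivedCategory.Q.mapIso ((HomologicalComplex.singleMapHomologicalComplex (ModuleCat.restrictScalars φ)
      (ComplexShape.up ℤ) 0).app (𝟙_ (ModuleCat.{u} R'))).symm ≪≫
    ((DTen.resFactors φ).app (𝟙_ (DRing.Cx R'))).symm

theorem isPerfect_rU (h : DRing.IsPerfectModule R R') : DRing.IsPerfect R (rU (algebraMap R R')) :=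
  Groth.Agent.DRingLib.isPerfect_of_iso inDIso h

theorem isPseudoCoherent'_rU (h : DRing.IsPseudoCoherentModule' R R') :
    DRing.IsPseudoCoherent' R (rU (algebraMap R R')) := by
  obtain ⟨E, b, hE, hf, ⟨e⟩⟩ := h
  exact ⟨E, b, hE, hf, ⟨e ≪≫ inDIso⟩⟩

variable [HasLTen R]

/-- Tensoring with an algebra of tor dimension at most `d` costs at most `d` degrees. -/
theorem isGE_tensor [HasLBase (algebraMap R R')] {d : ℕ} (hd : DRing.HasTorDimLE R d R') {X : Dual.D R}
    {g : ℤ} (hX : DerivedCategory.IsGE X g) :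
    DerivedCategory.IsGE ((LTen₂ R).obj (rU (algebraMap R R'), X)) (g - d) := by
  let φ := algebraMap R R'
  let Z := (LBase φ).obj X
  have hu : IsUniv φ ((baseAdj φ).unit.app X) := isUniv_unit (baseAdj φ) X
  haveI := isIso_projL φ hu
  let e := asIso (tm (𝟙 (rU φ)) ((baseAdj φ).unit.app X) ≫ (μL φ).app Z)
  have hZ : DerivedCategory.IsGE Z (g - d) := isGE_LBase hd hX
  refine (DerivedCategory.isGE_iff _ _).2 fun i hi => ?_
  have h1 : IsZero ((ModuleCat.restrictScalars.{u} φ).obj
      ((DerivedCategory.homologyFunctor (ModuleCat.{u} R') i).obj Z)) :=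
    (ModuleCat.restrictScalars.{u} φ).map_isZero ((DerivedCategory.isGE_iff _ _).1 hZ i hi)
  exact (h1.of_iso ((Groth.Agent.DerLib.ExactHomology.homologyIso
    (ModuleCat.restrictScalars.{u} φ) i).app Z)).of_iso
    ((DerivedCategory.homologyFunctor (ModuleCat.{u} R) i).mapIso e)

variable [HasLTen₃ R] [IsSymMonoidal R] [HasRHom R]

theorem isIso_evalTen_of_pseudoCoherent [HasLBase (algebraMap R R')] (L M : Dual.D R)
    (hR' : DRing.HasFiniteTorDim R R') (hM : DRing.IsPseudoCoherent' R M) (n : ℤ)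
    (hL : DerivedCategory.IsGE L n) : IsIso (evalTen (rU (algebraMap R R')) L M) := by
  obtain ⟨d, hd⟩ := hR'
  let N := rU (algebraMap R R')
  let F := (RHom R).flip.obj L ⋙ (LTen R).obj N
  let G := (RHom R).flip.obj ((LTen₂ R).obj (N, L))
  have hF : HomExactOp F := fun T hT => (homExact_LTen_obj N).map_isTri (isTri_RHom L T hT)
  have hG : HomExactOp G := fun T hT => homExact_id.map_isTri (isTri_RHom _ T hT)
  let τ : F ⟶ G := evalTenNat' N L
  refine isIso_of_bijective_unit _ fun j => ?_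
  show Function.Bijective fun g : (unit R)⟦j⟧ ⟶ F.obj (op M) => g ≫ τ.app (op M)
  let m : ℤ := n - d + j - 1
  obtain ⟨E, c, e, α, hE, hfree, hiso, hepi⟩ :=
    Groth.Agent.DRingLib.isPseudoCoherent'_iff_forall.1 hM m
  obtain ⟨C, g, h, hT⟩ := Pretriangulated.distinguished_cocone_triangle α
  let T := Triangle.mk α g h
  have hC : DerivedCategory.IsLE C (m - 1) := (DerivedCategory.isLE_iff C (m - 1)).2 fun i hi =>
    (Groth.Agent.DRingLib.Approx.iff_cone m T hT).1 ⟨hiso, hepi⟩ i (by omega)
  have hC' : DerivedCategory.IsLE (C⟦(-1 : ℤ)⟧) m :=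
    DerivedCategory.TStructure.t.isLE_shift C (m - 1) (-1) m (by omega)
  have hFle : ∀ (X : Dual.D R) (p : ℤ), DerivedCategory.IsLE X p → p ≤ m →
      ∀ x : (unit R)⟦j⟧ ⟶ F.obj (op X), x = 0 := fun X p hX hp =>
    hom_shift_unit_eq_zero_of_isGE (g := n - p - d) (isGE_tensor hd (isGE_RHom hX hL)) (by omega)
  have hGC : ∀ x : (unit R)⟦j⟧ ⟶ G.obj (op C), x = 0 :=
    hom_shift_unit_eq_zero_of_isGE (g := n - d - (m - 1))
      (isGE_RHom hC (isGE_tensor hd hL)) (by omega)
  haveI hτE : IsIso (τ.app (op (DRing.toD E))) :=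
    isIso_evalTen_right N L _ ⟨E, c, e, hE, fun i =>
      haveI := (hfree i).2
      ⟨(hfree i).1, inferInstance⟩, ⟨Iso.refl _⟩⟩
  constructor
  · intro z z' hzz
    rw [← sub_eq_zero]
    have hz : (z - z') ≫ τ.app (op M) = 0 := by
      rw [Preadditive.sub_comp, sub_eq_zero]
      exact hzz
    have h1 : ((z - z') ≫ F.map α.op) ≫ τ.app (op (DRing.toD E)) = 0 := by
      rw [Category.assoc, τ.naturality, ← Category.assoc, hz, zero_comp]
    have h2 : (z - z') ≫ F.map α.op = 0 :=
      (cancel_mono (τ.app (op (DRing.toD E)))).1 (h1.trans zero_comp.symm)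
    obtain ⟨x, hx⟩ := (hF T hT).2 _ (z - z') h2
    rw [← hx, hFle C (m - 1) hC (by omega) x]
    exact zero_comp
  · intro y
    obtain ⟨i, -, hi⟩ := hτE.out
    obtain ⟨z, hz⟩ : ∃ z : (unit R)⟦j⟧ ⟶ F.obj (op M), z ≫ F.map α.op = (y ≫ G.map α.op) ≫ i :=
      (hF _ (inv_rot_of_distTriang _ hT)).2 _ ((y ≫ G.map α.op) ≫ i) (hFle _ m hC' le_rfl _)
    have h1 : (y - z ≫ τ.app (op M)) ≫ G.map α.op = 0 := by
      rw [Preadditive.sub_comp, Category.assoc, ← τ.naturality, ← Category.assoc z, hz,
        Category.assoc, hi, Category.comp_id, sub_self]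
    obtain ⟨x, hx⟩ := (hG T hT).2 _ (y - z ≫ τ.app (op M)) h1
    refine ⟨z, (sub_eq_zero.1 ?_).symm⟩
    rw [← hx, hGC x]
    exact zero_comp

end TorIndBCLib
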