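import Groth.Agent.TorIndBCLib.Trivial
import Groth.Agent.TorIndBCLib.EvalTenIso
import Groth.Agent.ShriekRingLib.BaseChangeApps
import Groth.Agent.DualCxLib.Biduality
import Groth.Agent.PerfModLib.Hom

/-!
# Tor independent base change of the upper shriek
-/

set_option autoImplicit false
set_option linter.all false
set_option maxHeartbeats 1000000

universe u

open CategoryTheory CategoryTheory.Limits
open Groth.Agent DTen
open scoped TensorProduct

attribute [local instance] HasDerivedCategory.standard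

noncomputable section

namespace TorIndBCLib

open FinDualLib Groth.Agent.DualCxLib ShriekRingLib

/-- Every map of rings has universal maps. -/
theorem exists_univ_any {A B : Type u} [CommRing A] [CommRing B] (φ : A →+* B) (X : Dual.D A) :
    ∃ (Z : Dual.D B) (η : X ⟶ (DRing.restrictD φ).obj Z), IsUniv φ η := by
  obtain ⟨P, hP, ⟨e⟩⟩ := DTenLib.exists_kf_rep X
  exact ⟨_, _, (isUniv_γ_kf φ hP).comp_iso e.symm (Iso.refl _)⟩

/-- Derived base change is universal. -/
theorem exists_univ_base {A B : Type u} [CommRing A] [CommRing B] (φ : A →+* B) [DRing.HasLBaseChange φ]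
    (X : Dual.D A) : ∃ η : X ⟶ (DRing.restrictD φ).obj ((DRing.LBaseChange φ).obj X), IsUniv φ η := by
  obtain ⟨P, hP, ⟨e⟩⟩ := DTenLib.exists_kf_rep X
  exact ⟨_, (isUniv_γ_kf φ hP).comp_iso e.symm
    ((DRingLib.lBaseChangeObjIso φ P hP).symm ≪≫ (DRing.LBaseChange φ).mapIso e)⟩

/-- Couniversal maps along a perfect map commute with tor independent base change. -/
theorem exists_coUniv_bc (R S A B : Type u) [CommRing R] [CommRing S] [CommRing A] [CommRing B]
    [Algebra R S] [Algebra R A] [Algebra R B] [Algebra S B] [Algebra A B]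
    [IsScalarTower R A B] [IsScalarTower R S B] [Algebra.IsPushout R S A B]
    (hti : TorInd R S A) (hperf : DRing.IsPerfectModule R A)
    {K : Dual.D R} {Z : Dual.D A} {ε : (DRing.restrictD (algebraMap R A)).obj Z ⟶ K}
    (hε : IsCoUniv (algebraMap R A) ε)
    {K' : Dual.D S} {ηK : K ⟶ (DRing.restrictD (algebraMap R S)).obj K'} (hηK : IsUniv (algebraMap R S) ηK)
    {Z' : Dual.D B} {ηZ : Z ⟶ (DRing.restrictD (algebraMap A B)).obj Z'} (hηZ : IsUniv (algebraMap A B) ηZ) :
    ∃ ε' : (DRing.restrictD (algebraMap S B)).obj Z' ⟶ K', IsCoUniv (algebraMap S B) ε' := by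
  haveI := Groth.Agent.DualCxLib.hasLTen R
  haveI := DTenLib.hasLTen₃ R
  haveI := DTenLib.isSymMonoidal R
  haveI := Groth.Agent.DualCxLib.hasRHom R
  obtain ⟨ε', hε'⟩ := (isUniv_res_tor R S A B hti hηZ K').2 (ε ≫ ηK)
  refine ⟨ε', (isCoUniv_iff_kMap R S A B hti ε' (FinDualLib.exists_coUniv _ K')).2 ?_⟩
  exact (isCoUniv_kMap_iff_evalTen R S A B hti hηK hε hηZ ε' hε' (FinDualLib.exists_coUniv _ _)).2
    (DTenLib.isIso_evalTen_right _ K _ (isPerfect_rU hperf))

/-- A flat algebra of finite type is a perfect module over a polynomial ring mapping onto it. -/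
theorem isPerfectModule_of_flat (R : Type u) [CommRing R] [IsNoetherianRing R] (n : ℕ) (A : Type u) [CommRing A]
    [Algebra R A] [Algebra (MvPolynomial (Fin n) R) A] [IsScalarTower R (MvPolynomial (Fin n) R) A]
    [Module.Finite (MvPolynomial (Fin n) R) A] [Module.Flat R A] :
    DRing.IsPerfectModule (MvPolynomial (Fin n) R) A := by
  obtain ⟨d, hd⟩ := DiagLib.exists_FD_of_hasFiniteTorDim (PerfModLib.hasFiniteTorDim_of_flat (R := R) (M := A))
  exact PerfModLib.perfect_iff.2 ⟨PerfModLib.pcoh'_iff.1 PerfModLib.pcoh'_of_finite,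
    CILib.hasFiniteTorDim_of_FD (PerfModLib.fd_mvPolynomial R n d A hd)⟩

attribute [local instance] MvPolynomial.algebraMvPolynomial Algebra.TensorProduct.rightAlgebra

/-- The upper shriek of a flat map commutes with arbitrary base change. -/
theorem shriekVia_baseChange_flat {R R' A : Type u} [CommRing R] [CommRing R'] [CommRing A] [IsNoetherianRing R]
    [Algebra R R'] [Algebra R A] [Module.Flat R A] {n : ℕ}
    (ψ : MvPolynomial (Fin n) R →ₐ[R] A) (hψ : Function.Surjective ψ)
    [DRing.HasLBaseChange (algebraMap R (MvPolynomial (Fin n) R))]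
    {Rψ : Dual.D (MvPolynomial (Fin n) R) ⥤ Dual.D A} (adj : DRing.restrictD ψ.toRingHom ⊣ Rψ) {m : ℕ}
    (ψ' : MvPolynomial (Fin m) R' →ₐ[R'] (R' ⊗[R] A)) (hψ' : Function.Surjective ψ')
    [DRing.HasLBaseChange (algebraMap R' (MvPolynomial (Fin m) R'))]
    {Rψ' : Dual.D (MvPolynomial (Fin m) R') ⥤ Dual.D (R' ⊗[R] A)} (adj' : DRing.restrictD ψ'.toRingHom ⊣ Rψ')
    [DRing.HasLBaseChange (Algebra.TensorProduct.includeRight : A →ₐ[R] R' ⊗[R] A).toRingHom]
    [DRing.HasLBaseChange (algebraMap R R')] (K : Dual.D R) :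
    Nonempty ((DRing.LBaseChange (Algebra.TensorProduct.includeRight : A →ₐ[R] R' ⊗[R] A).toRingHom).obj
      (Dual2.shriekVia n Rψ K) ≅ Dual2.shriekVia m Rψ' ((DRing.LBaseChange (algebraMap R R')).obj K)) := by
  let P := MvPolynomial (Fin n) R
  let P' := MvPolynomial (Fin n) R'
  let A' := R' ⊗[R] A
  haveI : DRing.HasLBaseChange (algebraMap A A') :=
    ‹DRing.HasLBaseChange (Algebra.TensorProduct.includeRight : A →ₐ[R] R' ⊗[R] A).toRingHom›
  haveI : IsScalarTower R A A' := IsScalarTower.of_algebraMap_eq fun r =>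
    (Algebra.TensorProduct.includeRight.commutes r).symm
  letI : Algebra P A := ψ.toRingHom.toAlgebra
  haveI : Module.Finite P A := Module.Finite.of_surjective (Algebra.linearMap P A) hψ
  let τ : P' →+* A' := (MvPolynomial.aeval fun i => algebraMap A A' (ψ (MvPolynomial.X i))).toRingHom
  letI : Algebra P' A' := τ.toAlgebra
  letI : Algebra P A' := ((algebraMap A A').comp (algebraMap P A)).toAlgebra
  haveI : IsScalarTower P A A' := IsScalarTower.of_algebraMap_eq fun _ => rfl
  have hPA : ∀ r, algebraMap P A (MvPolynomial.C r) = algebraMap R A r := ψ.commutes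
  haveI : IsScalarTower P P' A' := IsScalarTower.of_algebraMap_eq' (by
    refine MvPolynomial.ringHom_ext (fun r => ?_) fun i => ?_
    · show algebraMap A A' (algebraMap P A (MvPolynomial.C r)) = τ (MvPolynomial.map (algebraMap R R') (MvPolynomial.C r))
      rw [hPA, MvPolynomial.map_C, ← IsScalarTower.algebraMap_apply R A A', IsScalarTower.algebraMap_apply R R' A']
      exact (MvPolynomial.aeval_C (R := R') (fun i => algebraMap A A' (ψ (MvPolynomial.X i))) _).symm
    · show algebraMap A A' (ψ (MvPolynomial.X i)) = τ (MvPolynomial.map (algebraMap R R') (MvPolynomial.X i))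
      rw [MvPolynomial.map_X]
      exact (MvPolynomial.aeval_X (R := R') (fun i => algebraMap A A' (ψ (MvPolynomial.X i))) i).symm)
  haveI : IsScalarTower R P P' := IsScalarTower.of_algebraMap_eq (R := R) (S := P) (A := P') fun r => (MvPolynomial.map_C (algebraMap R R') r).symm
  haveI : IsScalarTower R' P' A' := IsScalarTower.of_algebraMap_eq fun r => (MvPolynomial.aeval_C _ r).symm
  haveI : IsScalarTower R P A := IsScalarTower.of_algebraMap_eq fun r => (ψ.commutes r).symm
  haveI : IsScalarTower R P' A' := IsScalarTower.of_algebraMap_eq fun r => by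
    rw [IsScalarTower.algebraMap_apply R R' P', ← IsScalarTower.algebraMap_apply R' P' A',
      ← IsScalarTower.algebraMap_apply R R' A']
  have hbig : Algebra.IsPushout R A R' A' := inferInstance
  haveI hpo : Algebra.IsPushout P A P' A' :=
    (Algebra.IsPushout.comp_iff (T := A) (T' := A') R P R' P').1 hbig
  haveI : Algebra.IsPushout P P' A A' := hpo.symm
  haveI : Algebra.IsPushout R P R' P' := inferInstance
  obtain ⟨η, hη⟩ := exists_univ_base (algebraMap R P) K
  obtain ⟨η', hη'⟩ := exists_univ_base (algebraMap R R') K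
  have hti : TorInd P P' A := torInd_cancel R R' A P P' (torInd_of_flat R R' A) (torInd_of_flat R R' P)
  have hperf : DRing.IsPerfectModule P A := isPerfectModule_of_flat R n A
  obtain ⟨εψ, hεψ⟩ := exists_coUniv_shriekVia n ψ adj K
  obtain ⟨E', ηP', hηP'⟩ := exists_univ_any (algebraMap R' P') ((DRing.LBaseChange (algebraMap R R')).obj K)
  obtain ⟨E₂, ηP, hηP⟩ := exists_univ_any (algebraMap P P') ((DRing.LBaseChange (algebraMap R P)).obj K)
  obtain ⟨k, -⟩ := exists_iso_univ (isUniv_comp (IsScalarTower.algebraMap_eq R P P').symm hη hηP)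
    (isUniv_comp (IsScalarTower.algebraMap_eq R R' P').symm hη' hηP')
  obtain ⟨ηA, hηA⟩ := exists_univ_base (algebraMap A A') (Dual2.shriekVia n Rψ K)
  obtain ⟨ε₁, hε₁⟩ := exists_coUniv_bc P P' A A' hti hperf
    hεψ (isUniv_shift hηP (n : ℤ)) hηA
  obtain ⟨ηm, hηm⟩ := exists_univ_base (algebraMap R' (MvPolynomial (Fin m) R'))
    ((DRing.LBaseChange (algebraMap R R')).obj K)
  obtain ⟨εm, hεm⟩ := exists_coUniv_shriekVia m ψ' adj' ((DRing.LBaseChange (algebraMap R R')).obj K)
  have hsurjP : Function.Surjective τ := fun x => by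
    obtain ⟨w, rfl⟩ := (Algebra.IsPushout.equiv P P' A A').surjective x
    induction w using TensorProduct.induction_on with
    | zero => exact ⟨0, by rw [map_zero, map_zero]⟩
    | tmul s a =>
      obtain ⟨p, rfl⟩ := hψ a
      refine ⟨s * algebraMap P P' p, ?_⟩
      rw [Algebra.IsPushout.equiv_tmul, map_mul]
      exact congrArg _ ((IsScalarTower.algebraMap_apply P P' A' p).symm.trans (IsScalarTower.algebraMap_apply P A A' p))
    | add x y hx hy =>
      obtain ⟨x', hx'⟩ := hx
      obtain ⟨y', hy'⟩ := hy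
      exact ⟨x' + y', by rw [map_add, map_add, hx', hy']⟩
  exact nonempty_iso_presentations τ hsurjP ψ'.toRingHom hψ'
    (RingHom.ext fun r => (MvPolynomial.aeval_C _ r).trans (ψ'.commutes r).symm) hηP' hηm
    (hε₁.postcomp _ ((shiftFunctor _ (n : ℤ)).mapIso k)) hεm

end TorIndBCLib
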