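import Groth.Agent.TorIndBCLib.EvalTen

/-!
# The base change map of trivial duality
-/

set_option autoImplicit false
set_option linter.all false
set_option maxHeartbeats 1000000

universe u

open CategoryTheory CategoryTheory.Limits MonoidalCategory HomologicalComplex
open Groth.Agent DTen

attribute [local instance] HasDerivedCategory.standard

noncomputable section

namespace TorIndBCLib

open DTenLib FinDualLib Groth.Agent.DualCxLib ShriekRingLib

variable (R S A B : Type u) [CommRing R] [CommRing S] [CommRing A] [CommRing B]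
  [Algebra R S] [Algebra R A] [Algebra R B] [Algebra S B] [Algebra A B]
  [IsScalarTower R A B] [IsScalarTower R S B] [Algebra.IsPushout R S A B]

/-- The base change map of trivial duality is an isomorphism iff the evaluation map is. -/
theorem isIso_bcMap_iff_evalTen (htor : ∀ p : ℕ, 1 ≤ p → Subsingleton (DRing.Tor R p A S))
    [DRing.HasLBaseChange (algebraMap R S)] [DRing.HasLBaseChange (algebraMap A B)]
    (adjρ : DRing.LBaseChange (algebraMap R S) ⊣ DRing.restrictD (algebraMap R S))
    (adjα : DRing.LBaseChange (algebraMap A B) ⊣ DRing.restrictD (algebraMap A B))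
    (h : (algebraMap A B).comp (algebraMap R A) = (algebraMap S B).comp (algebraMap R S))
    {Rφ : Dual.D R ⥤ Dual.D A} (adj : DRing.restrictD (algebraMap R A) ⊣ Rφ)
    {Rφ' : Dual.D S ⥤ Dual.D B} (adj' : DRing.restrictD (algebraMap S B) ⊣ Rφ')
    (K : Dual.D R) (hc : IsIso (TrivBC.cmp adjρ adjα h (Rφ.obj K)))
    [HasLTen R] [HasLTen₃ R] [IsSymMonoidal R] [HasRHom R] :
    IsIso (TrivBC.bcMap adjρ adjα h adj adj' K hc) ↔
      IsIso (evalTen (rU (algebraMap R S)) K (rU (algebraMap R A))) := by
  haveI := hc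
  have hti := torInd_of_tor R S A htor
  let φ' := algebraMap S B
  let Z' := (DRing.LBaseChange (algebraMap A B)).obj (Rφ.obj K)
  let K' := (DRing.LBaseChange (algebraMap R S)).obj K
  let c := TrivBC.bcMap adjρ adjα h adj adj' K hc
  have hb : IsCoUniv φ' (adj'.counit.app K') := isCoUniv_of_adjunction φ' adj' K'
  let ε' : (DRing.restrictD φ').obj Z' ⟶ K' :=
    inv (TrivBC.cmp adjρ adjα h (Rφ.obj K)) ≫ (DRing.LBaseChange (algebraMap R S)).map (adj.counit.app K)
  have hc' : (DRing.restrictD φ').map c ≫ adj'.counit.app K' = ε' :=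
    (adj'.homEquiv_counit _ _ _).symm.trans (Equiv.symm_apply_apply _ _)
  have h1 : IsIso c ↔ IsCoUniv φ' ε' := by
    refine ⟨fun hi => ?_, fun hu => isIso_of_isCoUniv hu hb c hc'⟩
    rw [← hc']
    exact IsCoUniv_precomp hb (asIso c)
  refine h1.trans ((isCoUniv_iff_kMap R S A B hti ε' ⟨_, _, hb⟩).trans ?_)
  refine isCoUniv_kMap_iff_evalTen R S A B hti (isUniv_unit adjρ K) (isCoUniv_of_adjunction _ adj K)
    (isUniv_unit adjα (Rφ.obj K)) ε' ?_ ⟨_, _, isCoUniv_of_adjunction _ adj _⟩
  have hcmp : adjρ.unit.app ((DRing.restrictD (algebraMap R A)).obj (Rφ.obj K)) ≫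
      (DRing.restrictD (algebraMap R S)).map (TrivBC.cmp adjρ adjα h (Rφ.obj K)) =
      (DRing.restrictD (algebraMap R A)).map (adjα.unit.app (Rφ.obj K)) ≫ (sqComm R S A B).hom.app Z' := by
    rw [← resComm_eq_sqComm R S A B h]
    exact (adjρ.homEquiv_unit _ _ _).symm.trans (Equiv.apply_symm_apply _ _)
  rw [← hcmp, Category.assoc, ← Functor.map_comp, IsIso.hom_inv_id_assoc]
  exact (adjρ.unit.naturality (adj.counit.app K)).symm

end TorIndBCLib
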