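import Groth.Agent.TorIndBCLib.Acyclic
import Groth.Agent.ShriekRingLib.BaseChangeMod
import Groth.Prelude.Def_TrivBC

/-!
# Restriction and base change in a tor independent square
-/

set_option autoImplicit false
set_option linter.all false
set_option maxHeartbeats 1000000

universe u

open CategoryTheory CategoryTheory.Limits
open Groth.Agent DTen

attribute [local instance] HasDerivedCategory.standard

noncomputable section

namespace TorIndBCLib

open Groth.Agent.DualCxLib ShriekRingLib

variable (R S A B : Type u) [CommRing R] [CommRing S] [CommRing A] [CommRing B]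
  [Algebra R S] [Algebra R A] [Algebra R B] [Algebra S B] [Algebra A B]
  [IsScalarTower R A B] [IsScalarTower R S B] [Algebra.IsPushout R S A B]

/-- `S` and `A` are tor independent over `R`, in the form used here: restrictions of K-flat complexes are
acyclic for base change. -/
def TorInd (R S A : Type u) [CommRing R] [CommRing S] [CommRing A] [Algebra R S] [Algebra R A] : Prop :=
  ∀ Z : DRing.Cx A, DTenLib.KF Z →
    IsUniv (algebraMap R S) (γ (algebraMap R S) ((resCx (algebraMap R A)).obj Z))

omit [Algebra R B] [Algebra S B] [Algebra A B] [IsScalarTower R A B] [IsScalarTower R S B] [Algebra.IsPushout R S A B] in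
/-- Vanishing of higher Tor gives tor independence. -/
theorem torInd_of_tor (htor : ∀ p : ℕ, 1 ≤ p → Subsingleton (DRing.Tor R p A S)) : TorInd R S A :=
  fun Z hZ => isUniv_γ_res htor hZ

omit [Algebra R B] [Algebra S B] [Algebra A B] [IsScalarTower R A B] [IsScalarTower R S B] [Algebra.IsPushout R S A B] in
/-- A flat algebra is tor independent of every algebra. -/
theorem torInd_of_flat [Module.Flat R A] : TorInd R S A :=
  torInd_of_tor R S A fun p hp => ModuleCat.subsingleton_of_isZero
    (RelPCLib.ta_of_flat (N := ModuleCat.of R S) (ModuleCat.of R A) p hp)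

/-- Restriction sends universal maps to universal maps in a tor independent cocartesian square. -/
theorem isUniv_res_tor (hti : TorInd R S A) {W : Dual.D A} {W' : Dual.D B} {η : W ⟶ (DRing.restrictD (algebraMap A B)).obj W'}
    (hη : IsUniv (algebraMap A B) η) :
    IsUniv (algebraMap R S) ((DRing.restrictD (algebraMap R A)).map η ≫ (sqComm R S A B).hom.app W') := by
  obtain ⟨P, hP, ⟨e⟩⟩ := DTenLib.exists_kf_rep W
  obtain ⟨k, hk⟩ := exists_iso_univ ((isUniv_γ_kf (algebraMap A B) hP).comp_iso e.symm (Iso.refl _)) hη
  let φ := algebraMap R A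
  let ρ := algebraMap R S
  let φ' := algebraMap S B
  let E := (extCx (algebraMap A B)).obj P
  let th : (extCx ρ).obj ((resCx φ).obj P) ⟶ (resCx φ').obj E :=
    { f := fun i => (thetaMod R S A B).app (P.X i)
      comm' := fun i j _ => ((thetaMod R S A B).naturality (P.d i j)).symm }
  haveI : ∀ i, IsIso (th.f i) := fun i => isIso_thetaMod R S A B _
  haveI : IsIso th := HomologicalComplex.Hom.isIso_of_components th
  let f : DerivedCategory.Q.obj ((extCx ρ).obj ((resCx φ).obj P)) ≅ (DRing.restrictD φ').obj (DerivedCategory.Q.obj E) :=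
    DerivedCategory.Q.mapIso (asIso th) ≪≫ ((resFactors φ').app E).symm
  have hu := (hti P hP).comp_iso ((resFactors φ).app P) f
  have hX : (sqComm R S A B).hom.app (DerivedCategory.Q.obj E) =
      (DRing.restrictD φ).map ((resFactors (algebraMap A B)).hom.app E) ≫ (resFactors φ).hom.app _ ≫
        DerivedCategory.Q.map ((resCxIso φ (algebraMap A B) (algebraMap R B) (IsScalarTower.algebraMap_eq R A B).symm).inv.app E ≫
          (resCxIso ρ φ' (algebraMap R B) (IsScalarTower.algebraMap_eq R S B).symm).hom.app E) ≫
          (resFactors ρ).inv.app _ ≫ (DRing.restrictD ρ).map ((resFactors φ').inv.app E) := by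
    show (resDComp _ _ _ _).inv.app _ ≫ (resDComp _ _ _ _).hom.app _ = _
    rw [Functor.map_comp, Category.assoc]
    refine (cancel_epi ((resDComp φ (algebraMap A B) (algebraMap R B)
      (IsScalarTower.algebraMap_eq R A B).symm).hom.app (DerivedCategory.Q.obj E))).1 ?_
    rw [Iso.hom_inv_id_app_assoc]
    simp only [resDComp_app_Q, Category.assoc, ← Functor.map_comp_assoc, Iso.inv_hom_id_app,
      CategoryTheory.Functor.map_id, Category.id_comp, Iso.inv_hom_id_app_assoc]
    erw [CategoryTheory.Functor.map_id, Category.id_comp, Iso.inv_hom_id_app_assoc, ← Functor.map_comp_assoc,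
      Iso.hom_inv_id_app_assoc]
  have hγ : (DRing.restrictD φ).map (γ (algebraMap A B) P) ≫ (sqComm R S A B).hom.app (DerivedCategory.Q.obj E) =
      ((resFactors φ).app P).hom ≫ γ ρ ((resCx φ).obj P) ≫ (DRing.restrictD ρ).map f.hom := by
    rw [hX, show f.hom = DerivedCategory.Q.map th ≫ (resFactors φ').inv.app E from rfl,
      (DRing.restrictD ρ).map_comp, ← Category.assoc (γ ρ _), γ_comp]
    show (DRing.restrictD φ).map (DerivedCategory.Q.map _ ≫ _) ≫ _ = _
    have hu1 : (DRing.restrictD φ).map (DerivedCategory.Q.map ((unitCx (algebraMap A B)).app P) ≫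
          (resFactors (algebraMap A B)).inv.app E) ≫
        (DRing.restrictD φ).map ((resFactors (algebraMap A B)).hom.app E) =
        (DRing.restrictD φ).map (DerivedCategory.Q.map ((unitCx (algebraMap A B)).app P)) :=
      ((DRing.restrictD φ).map_comp _ _).symm.trans (congrArg _ ((Category.assoc _ _ _).trans
        ((congrArg (DerivedCategory.Q.map ((unitCx (algebraMap A B)).app P) ≫ ·)
          ((resFactors (algebraMap A B)).inv_hom_id_app E)).trans (Category.comp_id _))))
    refine ((Category.assoc _ _ _).symm.trans (congrArg (· ≫ _) hu1)).trans ?_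
    refine ((reassoc_of% ((resFactors φ).hom.naturality ((unitCx (algebraMap A B)).app P))) _).trans ?_
    simp only [Category.assoc, Functor.comp_map, ← Functor.map_comp_assoc, Iso.app_hom]
    refine congrArg (fun g => (resFactors φ).hom.app P ≫ DerivedCategory.Q.map g ≫ _) ?_
    refine HomologicalComplex.hom_ext _ _ fun i => ?_
    exact (((ModuleCat.extendRestrictScalarsAdj.{u, u, u} ρ).homEquiv _ _).apply_symm_apply _).symm.trans
      ((ModuleCat.extendRestrictScalarsAdj.{u, u, u} ρ).homEquiv_unit _ _ _)
  rw [← hγ] at hu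
  have h2 := hu.comp_iso ((DRing.restrictD φ).mapIso e.symm) ((DRing.restrictD φ').mapIso k)
  have he : ((DRing.restrictD φ).mapIso e.symm).hom ≫ ((DRing.restrictD φ).map (γ (algebraMap A B) P) ≫
      (sqComm R S A B).hom.app (DerivedCategory.Q.obj E)) ≫
      (DRing.restrictD ρ).map ((DRing.restrictD φ').mapIso k).hom =
      (DRing.restrictD φ).map η ≫ (sqComm R S A B).hom.app W' := by
    rw [← hk]
    simp only [Functor.mapIso_hom, Iso.refl_hom, CategoryTheory.Functor.map_id, Category.comp_id, Functor.map_comp,
      Category.assoc]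
    refine congrArg ((DRing.restrictD φ).map e.symm.hom ≫ (DRing.restrictD φ).map (γ (algebraMap A B) P) ≫ ·) ?_
    exact ((sqComm R S A B).hom.naturality k.hom).symm
  rwa [he] at h2

omit [Algebra.IsPushout R S A B] in
/-- The lifting datum of a composite restriction. -/
theorem liftingRes₂_hom {B C E : Type u} [CommRing B] [CommRing C] [CommRing E] (g : C →+* E) (f : B →+* C)
    (K : DRing.Cx E) : (TrivBC.liftingRes₂ g f).iso.hom.app K =
      (DRing.restrictD f).map ((resFactors g).hom.app K) ≫ (resFactors f).hom.app _ := by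
  delta TrivBC.liftingRes₂
  simp [resFactors]

omit [Algebra.IsPushout R S A B] in
/-- The inverse of the lifting datum of a composite restriction. -/
theorem liftingRes₂_inv {B C E : Type u} [CommRing B] [CommRing C] [CommRing E] (g : C →+* E) (f : B →+* C)
    (K : DRing.Cx E) : (TrivBC.liftingRes₂ g f).iso.inv.app K =
      (resFactors f).inv.app _ ≫ (DRing.restrictD f).map ((resFactors g).inv.app K) := by
  delta TrivBC.liftingRes₂
  simp [resFactors]

omit [Algebra.IsPushout R S A B] in
/-- The canonical commutation agrees with the composite comparison. -/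
theorem resComm_eq_sqComm (h : (algebraMap A B).comp (algebraMap R A) = (algebraMap S B).comp (algebraMap R S))
    (X : Dual.D B) : (TrivBC.resComm h).hom.app X = (sqComm R S A B).hom.app X := by
  let K := DerivedCategory.Q.objPreimage X
  let e : DerivedCategory.Q.obj K ≅ X := DerivedCategory.Q.objObjPreimageIso X
  suffices hK : (TrivBC.resComm h).hom.app (DerivedCategory.Q.obj K) =
      (sqComm R S A B).hom.app (DerivedCategory.Q.obj K) by
    rw [← cancel_epi ((DRing.restrictD (algebraMap A B) ⋙ DRing.restrictD (algebraMap R A)).map e.hom),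
      (TrivBC.resComm h).hom.naturality e.hom, (sqComm R S A B).hom.naturality e.hom, hK]
  show _ = (resDComp _ _ _ _).inv.app _ ≫ (resDComp _ _ _ _).hom.app _
  rw [← cancel_epi ((resDComp (algebraMap R A) (algebraMap A B) (algebraMap R B)
      (IsScalarTower.algebraMap_eq R A B).symm).hom.app (DerivedCategory.Q.obj K)), Iso.hom_inv_id_app_assoc,
    resDComp_app_Q, resDComp_app_Q]
  rw [TrivBC.resComm, Localization.liftNatIso_hom]
  erw [Localization.liftNatTrans_app]
  rw [liftingRes₂_hom, liftingRes₂_inv]
  simp only [TrivBC.resCommCx, Iso.trans_hom, Iso.symm_hom, NatTrans.comp_app, Functor.associator_inv_app,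
    Functor.associator_hom_app, Category.id_comp, Category.comp_id, Functor.isoWhiskerRight_hom,
    Functor.whiskerRight_app, Category.assoc]
  refine congrArg ((resFactors (algebraMap R B)).hom.app K ≫ ·) ?_
  simp only [← Functor.map_comp_assoc]
  erw [Iso.inv_hom_id_app, CategoryTheory.Functor.map_id, Category.id_comp, Iso.inv_hom_id_app_assoc,
    ← Functor.map_comp_assoc]
  refine congrArg (fun g => DerivedCategory.Q.map g ≫ _) ?_
  exact HomologicalComplex.hom_ext _ _ fun i => rfl

omit [Algebra.IsPushout R S A B] in
/-- Units of adjunctions are universal. -/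
theorem isUniv_unit {C E : Type u} [CommRing C] [CommRing E] {φ : C →+* E} {L : Dual.D C ⥤ Dual.D E}
    (adj : L ⊣ DRing.restrictD φ) (X : Dual.D C) : IsUniv φ (adj.unit.app X) := fun W => by
  have h : (fun f : L.obj X ⟶ W => adj.unit.app X ≫ (DRing.restrictD φ).map f) = adj.homEquiv X W :=
    funext fun f => (adj.homEquiv_unit _ _ _).symm
  rw [h]
  exact Equiv.bijective _

/-- The comparison map of a tor independent square is an isomorphism. -/
theorem isIso_cmp (htor : ∀ p : ℕ, 1 ≤ p → Subsingleton (DRing.Tor R p A S))
    [DRing.HasLBaseChange (algebraMap R S)] [DRing.HasLBaseChange (algebraMap A B)]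
    (adjρ : DRing.LBaseChange (algebraMap R S) ⊣ DRing.restrictD (algebraMap R S))
    (adjα : DRing.LBaseChange (algebraMap A B) ⊣ DRing.restrictD (algebraMap A B))
    (h : (algebraMap A B).comp (algebraMap R A) = (algebraMap S B).comp (algebraMap R S)) (K : Dual.D A) :
    IsIso (TrivBC.cmp adjρ adjα h K) := by
  have hu := isUniv_res_tor R S A B (torInd_of_tor R S A htor) (isUniv_unit adjα K)
  obtain ⟨k, hk⟩ := exists_iso_univ (isUniv_unit adjρ ((DRing.restrictD (algebraMap R A)).obj K)) hu
  have : TrivBC.cmp adjρ adjα h K = k.hom := by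
    apply (adjρ.homEquiv _ _).injective
    rw [adjρ.homEquiv_unit _ _ k.hom, hk, TrivBC.cmp, Equiv.apply_symm_apply, resComm_eq_sqComm]
  rw [this]
  infer_instance

omit [Algebra R B] [Algebra S B] [Algebra A B] [IsScalarTower R A B] [IsScalarTower R S B] [Algebra.IsPushout R S A B] in
/-- Tor independence passes to an intermediate ring of a cocartesian square. -/
theorem torInd_cancel (P P' : Type u) [CommRing P] [CommRing P'] [Algebra R P] [Algebra R P'] [Algebra S P']
    [Algebra P P'] [IsScalarTower R P P'] [IsScalarTower R S P'] [Algebra.IsPushout R S P P']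
    [Algebra P A] [IsScalarTower R P A] (hA : TorInd R S A) (hP : TorInd R S P) : TorInd P P' A := by
  intro Z hZ W
  refine bijective_γ (algebraMap P P') (fun {P₂} hP₂ r hr => ?_) W
  haveI := hr
  haveI : Algebra.IsPushout R P S P' := Algebra.IsPushout.symm inferInstance
  let θ := algebraMap R P
  let ρ := algebraMap R S
  let φ'' := algebraMap S P'
  let c := (resCxIso θ (algebraMap P A) (algebraMap R A) (IsScalarTower.algebraMap_eq R P A).symm).app Z
  let t : (resCx θ).obj P₂ ⟶ (resCx (algebraMap R A)).obj Z := (resCx θ).map r ≫ c.inv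
  haveI : QuasiIso ((resCx θ).map r) :=
    inferInstanceAs (QuasiIso (((ModuleCat.restrictScalars.{u} θ).mapHomologicalComplex _).map r))
  haveI : IsIso (DerivedCategory.Q.map t) := inferInstance
  have h1 : IsIso (DerivedCategory.Q.map ((extCx ρ).map t)) := by
    obtain ⟨k, hk⟩ := exists_iso_univ (hP P₂ hP₂)
      ((hA Z hZ).comp_iso (asIso (DerivedCategory.Q.map t)) (Iso.refl _))
    have : DerivedCategory.Q.map ((extCx ρ).map t) = k.hom := by
      refine (hP P₂ hP₂ _).1 (hk.trans ?_).symm
      rw [Iso.refl_hom, CategoryTheory.Functor.map_id, Category.comp_id, asIso_hom]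
      exact γ_naturality ρ t
    rw [this]
    infer_instance
  have h2 : QuasiIso ((extCx ρ).map ((resCx θ).map r)) := by
    haveI : QuasiIso ((extCx ρ).map t) := DTenLib.quasiIso_of_isIso_Q _ h1
    haveI : QuasiIso ((extCx ρ).map ((resCx θ).map r) ≫ (extCx ρ).map c.inv) := by
      rw [← Functor.map_comp]; infer_instance
    exact quasiIso_of_comp_right _ ((extCx ρ).map c.inv)
  let th : ∀ X : DRing.Cx P, (extCx ρ).obj ((resCx θ).obj X) ≅ (resCx φ'').obj ((extCx (algebraMap P P')).obj X) :=
    fun X => HomologicalComplex.Hom.isoOfComponents (fun i => @asIso _ _ _ _ ((thetaMod R S P P').app (X.X i)) (isIso_thetaMod R S P P' (X.X i)))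
      fun i j _ => ((thetaMod R S P P').naturality (X.d i j)).symm
  have hth : (extCx ρ).map ((resCx θ).map r) ≫ (th _).hom =
      (th P₂).hom ≫ (resCx φ'').map ((extCx (algebraMap P P')).map r) :=
    HomologicalComplex.hom_ext _ _ fun i => (thetaMod R S P P').naturality (r.f i)
  haveI : QuasiIso ((resCx φ'').map ((extCx (algebraMap P P')).map r)) := by
    haveI := h2
    haveI : QuasiIso ((th P₂).hom ≫ (resCx φ'').map ((extCx (algebraMap P P')).map r)) := by
      rw [← hth]; infer_instance
    exact quasiIso_of_comp_left (th P₂).hom _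
  haveI := DTenLib.quasiIso_resCx_reflect φ'' ((extCx (algebraMap P P')).map r)
  infer_instance

end TorIndBCLib
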