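import Groth.Agent.TorIndBCLib.Pairing

/-!
# The two actions on an object over the corner commute
-/

set_option autoImplicit false
set_option linter.all false
set_option maxHeartbeats 1000000

universe u

open CategoryTheory CategoryTheory.Limits MonoidalCategory HomologicalComplex
open Groth.Agent DTen
open Groth.Agent.TwoTermLib
open KFlatLib (ιT)

attribute [local instance] HasDerivedCategory.standard

noncomputable section

namespace TorIndBCLib

open DTenLib FinDualLib Groth.Agent.DualCxLib ShriekRingLib

variable (R S A B : Type u) [CommRing R] [CommRing S] [CommRing A] [CommRing B]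
  [Algebra R S] [Algebra R A] [Algebra R B] [Algebra S B] [Algebra A B]
  [IsScalarTower R A B] [IsScalarTower R S B]

/-- The two restrictions of a complex over the corner. -/
def cIso (K : DRing.Cx B) : (resCx (algebraMap R A)).obj ((resCx (algebraMap A B)).obj K) ≅
    (resCx (algebraMap R S)).obj ((resCx (algebraMap S B)).obj K) :=
  ((resCxIso (algebraMap R A) (algebraMap A B) (algebraMap R B) (IsScalarTower.algebraMap_eq R A B).symm).app K).symm ≪≫
    (resCxIso (algebraMap R S) (algebraMap S B) (algebraMap R B) (IsScalarTower.algebraMap_eq R S B).symm).app K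

/-- The identification with a complex. -/
def e₁ (K : DRing.Cx B) :
    (DRing.restrictD (algebraMap R A)).obj ((DRing.restrictD (algebraMap A B)).obj (DerivedCategory.Q.obj K)) ≅
      DerivedCategory.Q.obj ((resCx (algebraMap R A)).obj ((resCx (algebraMap A B)).obj K)) :=
  (DRing.restrictD (algebraMap R A)).mapIso ((resFactors (algebraMap A B)).app K) ≪≫ (resFactors _).app _

/-- The identification with a complex, the other way. -/
def e₂ (K : DRing.Cx B) :
    (DRing.restrictD (algebraMap R S)).obj ((DRing.restrictD (algebraMap S B)).obj (DerivedCategory.Q.obj K)) ≅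
      DerivedCategory.Q.obj ((resCx (algebraMap R S)).obj ((resCx (algebraMap S B)).obj K)) :=
  (DRing.restrictD (algebraMap R S)).mapIso ((resFactors (algebraMap S B)).app K) ≪≫ (resFactors _).app _

theorem sqComm_Q (K : DRing.Cx B) : (sqComm R S A B).hom.app (DerivedCategory.Q.obj K) ≫ (e₂ R S B K).hom =
    (e₁ R A B K).hom ≫ DerivedCategory.Q.map (cIso R S A B K).hom := by
  let φ := algebraMap R A
  rw [show (sqComm R S A B).hom.app (DerivedCategory.Q.obj K) =
    (resDComp _ _ _ _).inv.app _ ≫ (resDComp _ _ _ _).hom.app _ from rfl, Category.assoc]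
  refine (cancel_epi ((resDComp φ (algebraMap A B) (algebraMap R B)
      (IsScalarTower.algebraMap_eq R A B).symm).hom.app (DerivedCategory.Q.obj K))).1 ?_
  rw [Iso.hom_inv_id_app_assoc]
  simp only [resDComp_app_Q, e₁, e₂, Iso.trans_hom, Functor.mapIso_hom, Iso.app_hom, Category.assoc,
    ← Functor.map_comp_assoc, Iso.inv_hom_id_app, CategoryTheory.Functor.map_id]
  erw [CategoryTheory.Functor.map_id, Category.id_comp, Iso.inv_hom_id_app, Category.comp_id]
  rw [← Functor.map_comp_assoc]
  erw [Iso.inv_hom_id_app, CategoryTheory.Functor.map_id, Category.id_comp, Iso.inv_hom_id_app_assoc]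
  simp only [cIso, Iso.trans_hom, Iso.symm_hom, Iso.app_inv, Iso.app_hom, ← Functor.map_comp,
    Iso.hom_inv_id_app_assoc, φ]

variable [HasLTen R] [HasLTen₃ R] [IsSymMonoidal R]

/-- The action of the restricted unit of `S`. -/
def act (Y : Dual.D B) :
    (LTen₂ R).obj (rU (algebraMap R S),
        (DRing.restrictD (algebraMap R A)).obj ((DRing.restrictD (algebraMap A B)).obj Y)) ⟶
      (DRing.restrictD (algebraMap R A)).obj ((DRing.restrictD (algebraMap A B)).obj Y) :=
  tm (𝟙 _) ((sqComm R S A B).hom.app Y) ≫ (μL (algebraMap R S)).app ((DRing.restrictD (algebraMap S B)).obj Y) ≫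
    (sqComm R S A B).inv.app Y

theorem act_naturality {Y Y' : Dual.D B} (g : Y ⟶ Y') :
    tm (𝟙 (rU (algebraMap R S))) ((DRing.restrictD (algebraMap R A)).map ((DRing.restrictD (algebraMap A B)).map g)) ≫
        act R S A B Y' =
      act R S A B Y ≫ (DRing.restrictD (algebraMap R A)).map ((DRing.restrictD (algebraMap A B)).map g) := by
  have h1 := (sqComm R S A B).hom.naturality g
  have h2 := (sqComm R S A B).inv.naturality g
  simp only [Functor.comp_map] at h1 h2
  rw [act, act, ← Category.assoc, tm_comp, h1, ← tm_comp, Category.assoc, reassoc_of% μL_naturality, h2]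
  simp only [Category.assoc]

/-- The action, on complexes. -/
def actC (K : DRing.Cx B) :
    ru (algebraMap R S) ⊗ (resCx (algebraMap R A)).obj ((resCx (algebraMap A B)).obj K) ⟶
      (resCx (algebraMap R A)).obj ((resCx (algebraMap A B)).obj K) :=
  (𝟙 _ ⊗ₘ (cIso R S A B K).hom) ≫ mL (algebraMap R S) ((resCx (algebraMap S B)).obj K) ≫ (cIso R S A B K).inv

omit [HasLTen₃ R] [IsSymMonoidal R] in
theorem μR_Q (K : DRing.Cx B) :
    (μR (algebraMap R A)).app ((DRing.restrictD (algebraMap A B)).obj (DerivedCategory.Q.obj K)) ≫ (e₁ R A B K).hom =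
      tm (e₁ R A B K).hom (eU (algebraMap R A)).hom ≫ (ε R).app (_, ru (algebraMap R A)) ≫
        DerivedCategory.Q.map (mR (algebraMap R A) ((resCx (algebraMap A B)).obj K)) := by
  simp only [e₁, Iso.trans_hom, Functor.mapIso_hom, Iso.app_hom]
  rw [← Category.assoc, ← μR_naturality, Category.assoc]
  erw [μR_app_Q]
  rw [← Category.assoc (tm _ _) (tm _ _), tm_comp, Category.id_comp]
  rfl

omit [HasLTen₃ R] [IsSymMonoidal R] in
theorem act_Q (K : DRing.Cx B) :
    act R S A B (DerivedCategory.Q.obj K) ≫ (e₁ R A B K).hom =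
      tm (eU (algebraMap R S)).hom (e₁ R A B K).hom ≫ (ε R).app (ru (algebraMap R S), _) ≫
        DerivedCategory.Q.map (actC R S A B K) := by
  have h1 := sqComm_Q R S A B K
  have h2 : (sqComm R S A B).inv.app (DerivedCategory.Q.obj K) ≫ (e₁ R A B K).hom =
      (e₂ R S B K).hom ≫ DerivedCategory.Q.map (cIso R S A B K).inv := by
    rw [← cancel_mono (DerivedCategory.Q.map (cIso R S A B K).hom), Category.assoc, Category.assoc, ← h1,
      ← Functor.map_comp, Iso.inv_hom_id, CategoryTheory.Functor.map_id, Category.comp_id,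
      Iso.inv_hom_id_app_assoc]
  have h3 : (μL (algebraMap R S)).app ((DRing.restrictD (algebraMap S B)).obj (DerivedCategory.Q.obj K)) ≫
      (e₂ R S B K).hom = tm (eU (algebraMap R S)).hom (e₂ R S B K).hom ≫ (ε R).app (ru (algebraMap R S), _) ≫
        DerivedCategory.Q.map (mL (algebraMap R S) ((resCx (algebraMap S B)).obj K)) := by
    simp only [e₂, Iso.trans_hom, Functor.mapIso_hom, Iso.app_hom]
    rw [← Category.assoc, ← μL_naturality, Category.assoc]
    erw [μL_app_Q]
    rw [← Category.assoc (tm _ _) (tm _ _), tm_comp, Category.id_comp]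
    rfl
  rw [act, Category.assoc, Category.assoc, h2, reassoc_of% h3, ← Category.assoc (tm _ _) (tm _ _), tm_comp, h1,
    Category.id_comp, actC, Functor.map_comp, Functor.map_comp, ← εn', CategoryTheory.Functor.map_id,
    ← Category.assoc (tm _ _) (tm _ _), tm_comp, Category.comp_id]

/-- The two actions commute, on complexes. -/
theorem actC_comm (K : DRing.Cx B) :
    (actC R S A B K ⊗ₘ 𝟙 (ru (algebraMap R A))) ≫ mR (algebraMap R A) ((resCx (algebraMap A B)).obj K) =
      (α_ _ _ _).hom ≫ (𝟙 (ru (algebraMap R S)) ⊗ₘ mR (algebraMap R A) ((resCx (algebraMap A B)).obj K)) ≫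
        actC R S A B K := by
  let N := ru (algebraMap R S)
  let M := ru (algebraMap R A)
  let C := (resCx (algebraMap R A)).obj ((resCx (algebraMap A B)).obj K)
  have hact : ∀ (n : ℤ) (w : N.X 0) (y : C.X n),
      ((actC R S A B K).f n).hom ((ιT N C 0 n n (zero_add n)).hom (w ⊗ₜ y)) =
        (show C.X n from algebraMap S B (sc (algebraMap R S) w) • (show K.X n from y)) := fun n w y => by
    refine (congrArg (fun t => ((mL (algebraMap R S) ((resCx (algebraMap S B)).obj K) ≫
      (cIso R S A B K).inv).f n).hom t) (MonElt.map_ι N C (𝟙 N) (cIso R S A B K).hom 0 n n (zero_add n) w y)).trans ?_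
    exact congrArg (((cIso R S A B K).inv).f n).hom (mL_ι (algebraMap R S) _ n w _)
  refine HomologicalComplex.hom_ext _ _ fun n => hom_ext_right (algebraMap R A) _ _ _ fun x z => ?_
  induction x using MonElt.induction with
  | h0 => simp
  | hι p q hpq w y =>
    by_cases hp : p = 0
    · subst hp
      obtain rfl : q = n := by omega
      have hL : (((actC R S A B K ⊗ₘ 𝟙 M) ≫ mR (algebraMap R A) ((resCx (algebraMap A B)).obj K)).f q).hom
          ((ιT (N ⊗ C) M q 0 q (add_zero q)).hom ((ιT N C 0 q q hpq).hom (w ⊗ₜ y) ⊗ₜ z)) =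
          (show C.X q from algebraMap A B (sc (algebraMap R A) z) •
            algebraMap S B (sc (algebraMap R S) w) • (show K.X q from y)) :=
        (congrArg ((mR (algebraMap R A) ((resCx (algebraMap A B)).obj K)).f q).hom
          (MonElt.map_ι (N ⊗ C) M (actC R S A B K) (𝟙 M) q 0 q (add_zero q) _ z)).trans
          ((mR_ι (algebraMap R A) ((resCx (algebraMap A B)).obj K) q _ z).trans
            (congrArg (fun t : C.X q => (show C.X q from algebraMap A B (sc (algebraMap R A) z) •
              (show K.X q from t))) (hact q w y)))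
      have hR : (((α_ N C M).hom ≫ (𝟙 N ⊗ₘ mR (algebraMap R A) ((resCx (algebraMap A B)).obj K)) ≫
            actC R S A B K).f q).hom
          ((ιT (N ⊗ C) M q 0 q (add_zero q)).hom ((ιT N C 0 q q hpq).hom (w ⊗ₜ y) ⊗ₜ z)) =
          (show C.X q from algebraMap S B (sc (algebraMap R S) w) •
            algebraMap A B (sc (algebraMap R A) z) • (show K.X q from y)) := by
        refine (congrArg (fun t => (((𝟙 N ⊗ₘ mR (algebraMap R A) ((resCx (algebraMap A B)).obj K)) ≫
            actC R S A B K).f q).hom t)
          (MonElt.associator_ι N C M 0 q 0 q q q hpq (add_zero q) (add_zero q) (zero_add q) w y z)).trans ?_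
        refine (congrArg ((actC R S A B K).f q).hom
          (MonElt.map_ι N (C ⊗ M) (𝟙 N) (mR (algebraMap R A) ((resCx (algebraMap A B)).obj K)) 0 q q (zero_add q)
            w _)).trans ?_
        refine (hact q w _).trans (congrArg (fun t : C.X q => (show C.X q from algebraMap S B (sc (algebraMap R S) w) •
              (show K.X q from t))) ?_)
        exact mR_ι (algebraMap R A) ((resCx (algebraMap A B)).obj K) q y z
      refine hL.trans (Eq.trans ?_ hR.symm)
      exact smul_comm (algebraMap A B (sc (algebraMap R A) z)) (algebraMap S B (sc (algebraMap R S) w)) (show K.X q from y)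
    · haveI := ModuleCat.subsingleton_of_isZero (isZero_o (algebraMap R S) hp)
      rw [show w = 0 from Subsingleton.elim _ _]
      simp
  | hadd a b ha hb => simp only [TensorProduct.add_tmul, map_add, ha, hb]

/-- The two actions commute. -/
theorem act_comm (Y : Dual.D B) :
    tm (act R S A B Y) (𝟙 (rU (algebraMap R A))) ≫ (μR (algebraMap R A)).app ((DRing.restrictD (algebraMap A B)).obj Y) =
      (DTen.associator _ _ _).hom ≫
        tm (𝟙 (rU (algebraMap R S))) ((μR (algebraMap R A)).app ((DRing.restrictD (algebraMap A B)).obj Y)) ≫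
          act R S A B Y := by
  let K := DerivedCategory.Q.objPreimage Y
  let e : DerivedCategory.Q.obj K ≅ Y := DerivedCategory.Q.objObjPreimageIso Y
  let G := fun {Y Y' : Dual.D B} (g : Y ⟶ Y') =>
    (DRing.restrictD (algebraMap R A)).map ((DRing.restrictD (algebraMap A B)).map g)
  suffices h : tm (act R S A B (DerivedCategory.Q.obj K)) (𝟙 (rU (algebraMap R A))) ≫ (μR (algebraMap R A)).app _ =
      (DTen.associator _ _ _).hom ≫ tm (𝟙 (rU (algebraMap R S))) ((μR (algebraMap R A)).app _) ≫
        act R S A B (DerivedCategory.Q.obj K) by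
    haveI : IsIso (G e.hom) := inferInstanceAs (IsIso ((DRing.restrictD _).map ((DRing.restrictD _).map e.hom)))
    haveI := isIso_tm (𝟙 (rU (algebraMap R S))) (G e.hom)
    haveI := isIso_tm (tm (𝟙 (rU (algebraMap R S))) (G e.hom)) (𝟙 (rU (algebraMap R A)))
    rw [← cancel_epi (tm (tm (𝟙 (rU (algebraMap R S))) (G e.hom)) (𝟙 (rU (algebraMap R A))))]
    calc tm (tm (𝟙 _) (G e.hom)) (𝟙 _) ≫ tm (act R S A B Y) (𝟙 _) ≫ (μR (algebraMap R A)).app _
        = (tm (act R S A B (DerivedCategory.Q.obj K)) (𝟙 _) ≫ tm (G e.hom) (𝟙 _)) ≫ (μR (algebraMap R A)).app _ := by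
          rw [← Category.assoc, tm_comp, tm_comp, act_naturality]
      _ = (tm (act R S A B (DerivedCategory.Q.obj K)) (𝟙 _) ≫ (μR (algebraMap R A)).app _) ≫ G e.hom := by
          rw [Category.assoc, Category.assoc, μR_naturality]
      _ = _ := by
          rw [h]
          simp only [Category.assoc]
          rw [← act_naturality, ← Category.assoc (tm _ _) (tm _ _), tm_comp, Category.id_comp, ← μR_naturality,
            ← Category.assoc (tm (tm _ _) _), associator_natural, Category.assoc,
            ← Category.assoc (tm _ (tm _ _)) (tm _ _), tm_comp, Category.id_comp]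
  rw [← cancel_mono (e₁ R A B K).hom]
  simp only [Category.assoc]
  rw [act_Q, μR_Q, ← Category.assoc (tm _ _) (tm _ _), tm_comp, act_Q, ← Category.assoc (tm _ _) (tm _ _), tm_comp,
    μR_Q, Category.id_comp, Category.id_comp]
  let N := ru (algebraMap R S)
  let M := ru (algebraMap R A)
  let C := (resCx (algebraMap R A)).obj ((resCx (algebraMap A B)).obj K)
  have k1 : ∀ {a b : Dual.D R} (f : a ⟶ DerivedCategory.Q.obj (N ⊗ C)) (g : b ⟶ DerivedCategory.Q.obj M),
      tm (f ≫ DerivedCategory.Q.map (actC R S A B K)) g ≫ (ε R).app (C, M) ≫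
        DerivedCategory.Q.map (mR (algebraMap R A) ((resCx (algebraMap A B)).obj K)) =
      tm f g ≫ (ε R).app (N ⊗ C, M) ≫ DerivedCategory.Q.map
        ((actC R S A B K ⊗ₘ 𝟙 M) ≫ mR (algebraMap R A) ((resCx (algebraMap A B)).obj K)) := fun f g => by
    rw [Functor.map_comp, ← εn', CategoryTheory.Functor.map_id, ← Category.assoc (tm f g), tm_comp,
      Category.comp_id]
  have k2 : ∀ {a b : Dual.D R} (f : a ⟶ DerivedCategory.Q.obj N) (g : b ⟶ DerivedCategory.Q.obj (C ⊗ M)),
      tm f (g ≫ DerivedCategory.Q.map (mR (algebraMap R A) ((resCx (algebraMap A B)).obj K))) ≫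
        (ε R).app (N, C) ≫ DerivedCategory.Q.map (actC R S A B K) =
      tm f g ≫ (ε R).app (N, C ⊗ M) ≫ DerivedCategory.Q.map
        ((𝟙 N ⊗ₘ mR (algebraMap R A) ((resCx (algebraMap A B)).obj K)) ≫ actC R S A B K) := fun f g => by
    rw [Functor.map_comp, ← εn', CategoryTheory.Functor.map_id, ← Category.assoc (tm f g), tm_comp,
      Category.comp_id]
  let x := (eU (algebraMap R S)).hom
  let y := (e₁ R A B K).hom
  let z := (eU (algebraMap R A)).hom
  have h0 := associator_ε N C M
  calc tm (tm x y ≫ (ε R).app (N, C) ≫ DerivedCategory.Q.map (actC R S A B K)) z ≫ (ε R).app (C, M) ≫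
        DerivedCategory.Q.map (mR (algebraMap R A) ((resCx (algebraMap A B)).obj K))
      = tm (tm x y ≫ (ε R).app (N, C)) z ≫ (ε R).app (N ⊗ C, M) ≫ DerivedCategory.Q.map
          ((α_ N C M).hom ≫ (𝟙 N ⊗ₘ mR (algebraMap R A) ((resCx (algebraMap A B)).obj K)) ≫ actC R S A B K) := by
        rw [← actC_comm, ← k1, Category.assoc]
    _ = tm (tm x y) z ≫ (DTen.associator _ _ _).hom ≫ tm (𝟙 _) ((ε R).app (C, M)) ≫ (ε R).app (N, C ⊗ M) ≫
          DerivedCategory.Q.map ((𝟙 N ⊗ₘ mR (algebraMap R A) ((resCx (algebraMap A B)).obj K)) ≫ actC R S A B K) := by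
        rw [reassoc_of% h0, ← Functor.map_comp, ← Category.assoc (tm (tm x y) z), tm_comp, Category.comp_id]
    _ = (DTen.associator _ _ _).hom ≫ tm x (tm y z ≫ (ε R).app (C, M)) ≫ (ε R).app (N, C ⊗ M) ≫
          DerivedCategory.Q.map ((𝟙 N ⊗ₘ mR (algebraMap R A) ((resCx (algebraMap A B)).obj K)) ≫ actC R S A B K) := by
        rw [← Category.assoc (tm (tm x y) z), associator_natural, Category.assoc,
          ← Category.assoc (tm x (tm y z)), tm_comp, Category.comp_id]
    _ = _ := by
        rw [← k2, Category.assoc]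

end TorIndBCLib
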