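import Groth.Agent.DTenLib.RelTensor
import Groth.Agent.DualCxLib.Loc
import Groth.Agent.RelPCLib.TorBC
import Groth.Agent.ShriekRingLib.Iso

/-!
# Tor independence on complexes
-/

set_option autoImplicit false
set_option linter.all false
set_option maxHeartbeats 1000000

universe u

open CategoryTheory CategoryTheory.Limits MonoidalCategory HomologicalComplex
open Groth.Agent DTen
open CochainComplex (mappingCone)

attribute [local instance] HasDerivedCategory.standard

noncomputable section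

namespace TorIndBCLib

open DTenLib
open Groth.Agent.DRingLib (resP resψ quasiIso_resψ)

variable {R R' : Type u} [CommRing R] [CommRing R'] (φ : R →+* R')

/-- Two resolutions detect the same acyclicity. -/
theorem quasiIso_swap {P₁ P₂ N K : DRing.Cx R} (π : P₁ ⟶ N) (r : P₂ ⟶ K) (h₁ : KF P₁) (h₂ : KF P₂)
    [QuasiIso π] [QuasiIso r] : QuasiIso (π ⊗ₘ 𝟙 K) ↔ QuasiIso (𝟙 N ⊗ₘ r) := by
  have sq : (π ⊗ₘ 𝟙 P₂) ≫ (𝟙 N ⊗ₘ r) = (𝟙 P₁ ⊗ₘ r) ≫ (π ⊗ₘ 𝟙 K) := by
    rw [MonoidalCategory.tensorHom_comp_tensorHom, MonoidalCategory.tensorHom_comp_tensorHom]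
    simp
  haveI : QuasiIso (π ⊗ₘ 𝟙 P₂) := KFlatLib.quasiIso_tMap_right h₂ π
  haveI : QuasiIso (𝟙 P₁ ⊗ₘ r) := KFlatLib.quasiIso_tMap_left h₁ r
  constructor
  · intro h
    haveI : QuasiIso ((π ⊗ₘ 𝟙 P₂) ≫ (𝟙 N ⊗ₘ r)) := by rw [sq]; infer_instance
    exact quasiIso_of_comp_left (π ⊗ₘ 𝟙 P₂) _
  · intro h
    haveI : QuasiIso ((𝟙 P₁ ⊗ₘ r) ≫ (π ⊗ₘ 𝟙 K)) := by rw [← sq]; infer_instance
    exact quasiIso_of_comp_left (𝟙 P₁ ⊗ₘ r) _

/-- Flipping the factors. -/
theorem quasiIso_flip {K P P' : DRing.Cx R} (f : P ⟶ P') :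
    QuasiIso (f ⊗ₘ 𝟙 K) ↔ QuasiIso (𝟙 K ⊗ₘ f) := by
  have h : (f ⊗ₘ 𝟙 K) ≫ (KFlatLib.tensorFlipIso K P').hom =
      (KFlatLib.tensorFlipIso K P).hom ≫ (𝟙 K ⊗ₘ f) := KFlatLib.tensorFlipIso_natural (𝟙 K) f
  constructor
  · intro _
    haveI : QuasiIso ((KFlatLib.tensorFlipIso K P).hom ≫ (𝟙 K ⊗ₘ f)) := by rw [← h]; infer_instance
    exact quasiIso_of_comp_left (KFlatLib.tensorFlipIso K P).hom _
  · intro _
    haveI : QuasiIso ((f ⊗ₘ 𝟙 K) ≫ (KFlatLib.tensorFlipIso K P').hom) := by rw [h]; infer_instance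
    exact quasiIso_of_comp_right _ (KFlatLib.tensorFlipIso K P').hom

/-- Restricted tensor against termwise base change. -/
theorem quasiIso_tensor_res (C : DRing.Cx R') {P P' : DRing.Cx R} (f : P ⟶ P') :
    QuasiIso (𝟙 ((resCx φ).obj C) ⊗ₘ f) ↔ QuasiIso (𝟙 C ⊗ₘ (extCx φ).map f) := by
  haveI := isIso_prCx φ C P
  haveI := isIso_prCx φ C P'
  constructor
  · intro _
    haveI : QuasiIso (prCx φ C P ≫ (resCx φ).map (𝟙 C ⊗ₘ (extCx φ).map f)) := by
      rw [← prCx_naturality]; infer_instance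
    haveI : QuasiIso ((resCx φ).map (𝟙 C ⊗ₘ (extCx φ).map f)) := quasiIso_of_comp_left (prCx φ C P) _
    exact quasiIso_resCx_reflect φ _
  · intro _
    haveI : QuasiIso ((resCx φ).map (𝟙 C ⊗ₘ (extCx φ).map f)) :=
      inferInstanceAs (QuasiIso (((ModuleCat.restrictScalars.{u} φ).mapHomologicalComplex _).map _))
    haveI : QuasiIso ((𝟙 ((resCx φ).obj C) ⊗ₘ f) ≫ prCx φ C P') := by
      rw [prCx_naturality]; infer_instance
    exact quasiIso_of_comp_right _ (prCx φ C P')

/-- The unit complex detects base change. -/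
theorem quasiIso_extCx_iff {P P' : DRing.Cx R} (f : P ⟶ P') :
    QuasiIso (𝟙 ((resCx φ).obj (𝟙_ (DRing.Cx R'))) ⊗ₘ f) ↔ QuasiIso ((extCx φ).map f) := by
  rw [quasiIso_tensor_res, MonoidalCategory.id_tensorHom]
  have h : 𝟙_ (DRing.Cx R') ◁ (extCx φ).map f ≫ (λ_ _).hom = (λ_ _).hom ≫ (extCx φ).map f :=
    leftUnitor_naturality _
  constructor
  · intro _
    haveI : QuasiIso ((λ_ _).hom ≫ (extCx φ).map f) := by rw [← h]; infer_instance
    exact quasiIso_of_comp_left (λ_ ((extCx φ).obj P)).hom _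
  · intro _
    haveI : QuasiIso (𝟙_ (DRing.Cx R') ◁ (extCx φ).map f ≫ (λ_ _).hom) := by rw [h]; infer_instance
    exact quasiIso_of_comp_right _ (λ_ ((extCx φ).obj P')).hom

variable {A : Type u} [CommRing A] [Algebra R A] [Algebra R R']

/-- Termwise base change of resolutions of a tor independent algebra. -/
theorem quasiIso_ext_resolution (htor : ∀ p : ℕ, 1 ≤ p → Subsingleton (DRing.Tor R p A R'))
    {E : DRing.Cx R} (π : E ⟶ (resCx (algebraMap R A)).obj (𝟙_ (DRing.Cx A))) [QuasiIso π]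
    (hb : ∀ i, 0 < i → IsZero (E.X i)) (hf : ∀ i, Module.Flat R (E.X i)) :
    QuasiIso ((extCx (algebraMap R R')).map π) := by
  let N : ModuleCat.{u} R := ModuleCat.of R R'
  let T := (resCx (algebraMap R A)).obj (𝟙_ (DRing.Cx A))
  have hz : ∀ {i : ℤ}, i ≠ 0 → IsZero (T.X i) := fun {i} hi =>
    (ModuleCat.restrictScalars.{u} (algebraMap R A)).map_isZero
      (HomologicalComplex.isZero_single_obj_X (ComplexShape.up ℤ) (0 : ℤ) _ i hi)
  have hT : ∀ i, RelPCLib.TA N (T.X i) := fun i => by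
    by_cases hi : i = 0
    · subst hi
      have hA : RelPCLib.TA N (ModuleCat.of R A) := fun p hp =>
        haveI := htor p hp
        ModuleCat.isZero_of_subsingleton _
      refine hA.of_iso (?_ ≪≫ (ModuleCat.restrictScalars.{u} (algebraMap R A)).mapIso
        (HomologicalComplex.singleObjXSelf (ComplexShape.up ℤ) (0 : ℤ) (𝟙_ (ModuleCat.{u} A))).symm)
      refine (LinearEquiv.toModuleIso (?_ : A ≃ₗ[R]
        ((ModuleCat.restrictScalars.{u} (algebraMap R A)).obj (𝟙_ (ModuleCat.{u} A)) : ModuleCat.{u} R)))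
      exact
        { toFun := fun x => x
          invFun := fun x => x
          left_inv := fun _ => rfl
          right_inv := fun _ => rfl
          map_add' := fun _ _ => rfl
          map_smul' := fun r x => Algebra.smul_def r (x : A) }
    · haveI : Subsingleton (T.X i) := ModuleCat.subsingleton_of_isZero (hz hi)
      exact RelPCLib.ta_of_flat _
  let C := mappingCone π
  have hC : ∀ i, C.ExactAt i := fun i => ((KFlatLib.acyclic_cone_iff π).mpr inferInstance) i |> fun h =>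
    (exactAt_iff_isZero_homology _ i).2 h
  have hta : ∀ i, RelPCLib.TA N (C.X i) := fun i => by
    haveI := hf (i + 1)
    let S : ShortComplex (ModuleCat.{u} R) :=
      ShortComplex.mk ((CochainComplex.mappingCone.inr π).f i)
        ((CochainComplex.mappingCone.fst π).1.v i (i + 1) rfl) (CochainComplex.mappingCone.inr_f_fst_v π _ _ _)
    have hS : S.Splitting :=
      { r := (CochainComplex.mappingCone.snd π).v i i (add_zero i)
        s := (CochainComplex.mappingCone.inl π).v (i + 1) i (by omega)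
        f_r := CochainComplex.mappingCone.inr_f_snd_v π i
        s_g := CochainComplex.mappingCone.inl_v_fst_v π (i + 1) i (by omega)
        id := by
          rw [add_comm]
          exact CochainComplex.mappingCone.id_X π i (i + 1) rfl }
    exact RelPCLib.ta_middle (S := S) hS.shortExact (hT i) (RelPCLib.ta_of_flat _)
  have hc : ∀ i, 0 < i → IsZero (C.X i) := fun i hi =>
    (CochainComplex.mappingCone.isZero_X_iff π i).2 ⟨hb _ (by omega), hz (by omega)⟩
  refine KFlatLib.quasiIso_map_of_cone _ π fun i => ?_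
  refine (exactAt_iff_isZero_homology _ i).1 ?_
  rw [exactAt_iff' _ (i - 1) i (i + 1) (by simp) (by simp),
    ShortComplex.ShortExact.moduleCat_exact_iff_function_exact]
  exact RelPCLib.exact_extend_of_ta (algebraMap R R') rfl C hC 0 hc hta i

/-- Restrictions of K-flat complexes along a tor independent map are acyclic for base change. -/
theorem quasiIso_ext_of_kf (htor : ∀ p : ℕ, 1 ≤ p → Subsingleton (DRing.Tor R p A R'))
    {Z : DRing.Cx A} (hZ : KF Z) {P : DRing.Cx R} (hP : KF P)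
    (r : P ⟶ (resCx (algebraMap R A)).obj Z) [QuasiIso r] :
    QuasiIso ((extCx (algebraMap R R')).map r) := by
  let φA := algebraMap R A
  let o := (resCx (algebraMap R R')).obj (𝟙_ (DRing.Cx R'))
  let P₁ := (resP R).obj o
  let π : P₁ ⟶ o := (resψ R).app o
  haveI : QuasiIso π := quasiIso_resψ o
  let T := (resCx φA).obj (𝟙_ (DRing.Cx A))
  have hTz : ∀ i : ℤ, 0 < i → IsZero ((DRingLib.Hn R i).obj (DerivedCategory.Q.obj T)) := fun i hi =>
    DRingLib.isZero_Hn_Q T i ((ModuleCat.restrictScalars.{u} φA).map_isZero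
      (HomologicalComplex.isZero_single_obj_X (ComplexShape.up ℤ) (0 : ℤ) _ i (by omega)))
  obtain ⟨E, hEb, hEf, ⟨eE⟩⟩ := DRingLib.exists_free_rep (DerivedCategory.Q.obj T) 0 hTz
  haveI := DRingLib.isKProjective_of_free E 0 hEb hEf
  obtain ⟨πA, hπA⟩ := DRingLib.exists_qis_of_iso E T eE
  haveI : QuasiIso πA := hπA
  have hE : KF E := DRingLib.isKFlat_of_free E 0 hEb hEf
  have h1 : QuasiIso (π ⊗ₘ 𝟙 T) := by
    rw [quasiIso_swap π πA (kf_resP o) hE, quasiIso_extCx_iff]
    exact quasiIso_ext_resolution htor πA hEb fun i => by haveI := hEf i; infer_instance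
  have h2 : QuasiIso ((extCx φA).map π) := by rwa [quasiIso_flip, quasiIso_extCx_iff] at h1
  have h3 : QuasiIso (π ⊗ₘ 𝟙 ((resCx φA).obj Z)) := by
    rw [quasiIso_flip, quasiIso_tensor_res]
    exact KFlatLib.quasiIso_tMap_left hZ _
  rwa [quasiIso_swap π r (kf_resP o) hP, quasiIso_extCx_iff] at h3

/-- Universality of the termwise unit. -/
theorem isUniv_γ_res (htor : ∀ p : ℕ, 1 ≤ p → Subsingleton (DRing.Tor R p A R'))
    {Z : DRing.Cx A} (hZ : KF Z) :
    DualCxLib.IsUniv (algebraMap R R') (DualCxLib.γ (algebraMap R R') ((resCx (algebraMap R A)).obj Z)) :=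
  fun W => DualCxLib.bijective_γ (algebraMap R R') (fun {P} hP s hs =>
    haveI := hs
    isIso_Q_map _ (quasiIso_ext_of_kf htor hZ hP s)) W

/-- Universality of the termwise unit of a K-flat complex. -/
theorem isUniv_γ_kf {S T : Type u} [CommRing S] [CommRing T] (g : S →+* T) {Z : DRing.Cx S} (hZ : KF Z) :
    DualCxLib.IsUniv g (DualCxLib.γ g Z) :=
  fun W => DualCxLib.bijective_γ g (fun {P} hP s hs =>
    haveI := hs
    isIso_Q_extCx_map g hP hZ s) W

end TorIndBCLib
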