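import Groth.Agent.TorIndBCLib.Action
import Groth.Agent.ShriekRingLib.Step

/-!
# Base change of couniversal maps and the evaluation map
-/

set_option autoImplicit false
set_option linter.all false
set_option maxHeartbeats 1000000

universe u

open CategoryTheory CategoryTheory.Limits MonoidalCategory HomologicalComplex
open Groth.Agent DTen

attribute [local instance] HasDerivedCategory.standard

noncomputable section

namespace TorIndBCLib

open DTenLib FinDualLib Groth.Agent.DualCxLib ShriekRingLib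

section General

variable {A B : Type u} [CommRing A] [CommRing B] {φ : A →+* B}

/-- Restriction of scalars reflects isomorphisms. -/
theorem isIso_of_restrictD {X Y : Dual.D B} (f : X ⟶ Y) (hf : IsIso ((DRing.restrictD φ).map f)) : IsIso f := by
  haveI := hf
  refine (DerivedCategory.isIso_iff (C := ModuleCat.{u} B) _).2 fun n => ?_
  have h : IsIso ((ModuleCat.restrictScalars φ).map
      ((DerivedCategory.homologyFunctor (ModuleCat.{u} B) n).map f)) := by
    exact (NatIso.isIso_map_iff (Groth.Agent.DerLib.ExactHomology.homologyIso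
      (ModuleCat.restrictScalars.{u} φ) n) f).1
      (inferInstanceAs (IsIso ((DerivedCategory.homologyFunctor (ModuleCat.{u} A) n).map
        ((DRing.restrictD φ).map f))))
  exact isIso_of_reflects_iso _ (ModuleCat.restrictScalars.{u} φ)

/-- A map between couniversal objects over the same map is an isomorphism. -/
theorem isIso_of_isCoUniv {L : Dual.D A} {Z Z' : Dual.D B} {ε : (DRing.restrictD φ).obj Z ⟶ L}
    {ε' : (DRing.restrictD φ).obj Z' ⟶ L} (h : IsCoUniv φ ε) (h' : IsCoUniv φ ε') (c : Z ⟶ Z')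
    (hc : (DRing.restrictD φ).map c ≫ ε' = ε) : IsIso c := by
  obtain ⟨d, hd⟩ := (h Z').2 ε'
  refine ⟨d, (h Z).1 ?_, (h' Z').1 ?_⟩
  · show _ ≫ _ = _ ≫ _
    rw [Functor.map_comp, Category.assoc, show (DRing.restrictD φ).map d ≫ ε = ε' from hd, hc,
      CategoryTheory.Functor.map_id, Category.id_comp]
  · show _ ≫ _ = _ ≫ _
    rw [Functor.map_comp, Category.assoc, hc, show (DRing.restrictD φ).map d ≫ ε = ε' from hd,
      CategoryTheory.Functor.map_id, Category.id_comp]

end General

variable (R S A B : Type u) [CommRing R] [CommRing S] [CommRing A] [CommRing B]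
  [Algebra R S] [Algebra R A] [Algebra R B] [Algebra S B] [Algebra A B]
  [IsScalarTower R A B] [IsScalarTower R S B]

/-- Restriction of a candidate couniversal map along the base change. -/
abbrev kMap {Z' : Dual.D B} {K' : Dual.D S} (ε' : (DRing.restrictD (algebraMap S B)).obj Z' ⟶ K') :
    (DRing.restrictD (algebraMap R A)).obj ((DRing.restrictD (algebraMap A B)).obj Z') ⟶
      (DRing.restrictD (algebraMap R S)).obj K' :=
  (sqComm R S A B).hom.app Z' ≫ (DRing.restrictD (algebraMap R S)).map ε'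

theorem kMap_comp {Z' Z'' : Dual.D B} {K' : Dual.D S} (ε'' : (DRing.restrictD (algebraMap S B)).obj Z'' ⟶ K')
    (c : Z' ⟶ Z'') : kMap R S A B ((DRing.restrictD (algebraMap S B)).map c ≫ ε'') =
      (DRing.restrictD (algebraMap R A)).map ((DRing.restrictD (algebraMap A B)).map c) ≫ kMap R S A B ε'' := by
  rw [kMap, kMap, Functor.map_comp, ← Category.assoc, ← Category.assoc]
  refine congrArg (· ≫ _) ?_
  exact ((sqComm R S A B).hom.naturality c).symm

variable [Algebra.IsPushout R S A B]

/-- Couniversal over the base change implies couniversal after restriction. -/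
theorem isCoUniv_kMap (hti : TorInd R S A) {Z' : Dual.D B} {K' : Dual.D S}
    {ε' : (DRing.restrictD (algebraMap S B)).obj Z' ⟶ K'} (h : IsCoUniv (algebraMap S B) ε') :
    IsCoUniv (algebraMap R A) (kMap R S A B ε') := by
  intro X
  obtain ⟨P, hP, ⟨e⟩⟩ := DTenLib.exists_kf_rep X
  obtain ⟨X', η, hη⟩ : ∃ (X' : Dual.D B) (η : X ⟶ (DRing.restrictD (algebraMap A B)).obj X'),
      IsUniv (algebraMap A B) η :=
    ⟨_, _, (isUniv_γ_kf (algebraMap A B) hP).comp_iso e.symm (Iso.refl _)⟩
  have hu := isUniv_res_tor R S A B hti hη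
  let E := ((Equiv.ofBijective _ (hη Z')).symm.trans (Equiv.ofBijective _ (h X'))).trans (Equiv.ofBijective _ (hu K'))
  convert E.bijective using 1
  funext f
  obtain ⟨g, rfl⟩ := (hη Z').2 f
  have hg : (Equiv.ofBijective _ (hη Z')).symm (η ≫ (DRing.restrictD (algebraMap A B)).map g) = g :=
    (Equiv.symm_apply_eq _).2 rfl
  show (DRing.restrictD (algebraMap R A)).map (η ≫ (DRing.restrictD (algebraMap A B)).map g) ≫ kMap R S A B ε' =
    ((DRing.restrictD (algebraMap R A)).map η ≫ (sqComm R S A B).hom.app X') ≫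
      (DRing.restrictD (algebraMap R S)).map ((DRing.restrictD (algebraMap S B)).map
        ((Equiv.ofBijective _ (hη Z')).symm (η ≫ (DRing.restrictD (algebraMap A B)).map g)) ≫ ε')
  rw [hg, Functor.map_comp, Category.assoc, Category.assoc, ← kMap_comp]

/-- Couniversality may be checked after restriction along the base change. -/
theorem isCoUniv_iff_kMap (hti : TorInd R S A) {Z' : Dual.D B} {K' : Dual.D S}
    (ε' : (DRing.restrictD (algebraMap S B)).obj Z' ⟶ K')
    (hex : ∃ (Z'' : Dual.D B) (ε'' : (DRing.restrictD (algebraMap S B)).obj Z'' ⟶ K'), IsCoUniv (algebraMap S B) ε'') :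
    IsCoUniv (algebraMap S B) ε' ↔ IsCoUniv (algebraMap R A) (kMap R S A B ε') := by
  refine ⟨isCoUniv_kMap R S A B hti, fun h => ?_⟩
  obtain ⟨Z'', ε'', h''⟩ := hex
  obtain ⟨c, hc⟩ := (h'' Z').2 ε'
  change _ ≫ _ = _ at hc
  subst hc
  haveI : IsIso ((DRing.restrictD (algebraMap A B)).map c) :=
    isIso_of_isCoUniv h (isCoUniv_kMap R S A B hti h'') _ (kMap_comp R S A B ε'' c).symm
  haveI := isIso_of_restrictD c this
  exact IsCoUniv_precomp h'' (asIso c)

variable [HasLTen R] [HasLTen₃ R] [IsSymMonoidal R] [HasRHom R]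

/-- The base change of a couniversal map is couniversal iff the evaluation map is an isomorphism. -/
theorem isCoUniv_kMap_iff_evalTen (hti : TorInd R S A)
    {K : Dual.D R} {K' : Dual.D S} {ηK : K ⟶ (DRing.restrictD (algebraMap R S)).obj K'}
    (hηK : IsUniv (algebraMap R S) ηK) {Z : Dual.D A} {ε : (DRing.restrictD (algebraMap R A)).obj Z ⟶ K}
    (hε : IsCoUniv (algebraMap R A) ε) {Z' : Dual.D B} {ηZ : Z ⟶ (DRing.restrictD (algebraMap A B)).obj Z'}
    (hηZ : IsUniv (algebraMap A B) ηZ) (ε' : (DRing.restrictD (algebraMap S B)).obj Z' ⟶ K')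
    (hcomp : ((DRing.restrictD (algebraMap R A)).map ηZ ≫ (sqComm R S A B).hom.app Z') ≫
      (DRing.restrictD (algebraMap R S)).map ε' = ε ≫ ηK)
    (hW : ∃ (W : Dual.D A) (δ : (DRing.restrictD (algebraMap R A)).obj W ⟶ (DRing.restrictD (algebraMap R S)).obj K'),
      IsCoUniv (algebraMap R A) δ) :
    IsCoUniv (algebraMap R A) (kMap R S A B ε') ↔
      IsIso (evalTen (rU (algebraMap R S)) K (rU (algebraMap R A))) := by
  obtain ⟨W, δ, hδ⟩ := hW
  obtain ⟨g, hg⟩ := (hδ _).2 (kMap R S A B ε')
  change _ ≫ _ = _ at hg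
  let φ := algebraMap R A
  let ρ := algebraMap R S
  let N := rU (algebraMap R S)
  let M := rU (algebraMap R A)
  let G := DRing.restrictD (algebraMap R A)
  let pr := tm (𝟙 N) ηK ≫ (μL ρ).app K'
  let τ := rhomHomEquiv _ M _ ((μR φ).app Z ≫ ε)
  let τ' := rhomHomEquiv _ M _ ((μR φ).app W ≫ δ)
  let e := tm (𝟙 N) (G.map ηZ) ≫ act R S A B Z'
  haveI : IsIso τ := isIso_curry_coUniv φ hε
  haveI : IsIso τ' := isIso_curry_coUniv φ hδ
  haveI : IsIso pr := isIso_projL ρ hηK
  haveI : IsIso (tm (𝟙 N) τ) := isIso_tm (𝟙 N) τ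
  haveI : IsIso e := by
    haveI := isIso_projL ρ (isUniv_res_tor R S A B hti hηZ)
    show IsIso (tm (𝟙 N) (G.map ηZ) ≫ tm (𝟙 _) ((sqComm R S A B).hom.app Z') ≫ (μL ρ).app _ ≫ (sqComm R S A B).inv.app Z')
    rw [← Category.assoc, tm_comp, Category.id_comp, ← Category.assoc]
    infer_instance
  have key : e ≫ G.map g ≫ τ' = tm (𝟙 N) τ ≫ evalTen N K M ≫ (RHomR R M).map pr := by
    rw [evalTen, curry_map, curry_comp, curry_comp, curry_comp]
    refine congrArg _ ?_
    have hl : tm e (𝟙 M) ≫ tm (G.map g) (𝟙 M) ≫ (μR φ).app W ≫ δ =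
        (DTen.associator _ _ _).hom ≫ tm (𝟙 N) ((μR φ).app Z ≫ ε) ≫ pr := by
      rw [reassoc_of% μR_naturality, hg]
      show tm (tm (𝟙 N) (G.map ηZ) ≫ act R S A B Z') (𝟙 M) ≫ _ ≫ _ = _
      rw [← Category.comp_id (𝟙 M), ← tm_comp, Category.assoc, reassoc_of% act_comm, ← Category.assoc,
        associator_natural, Category.assoc, ← Category.assoc (tm _ (tm _ _)), tm_comp, μR_naturality,
        Category.id_comp, act]
      simp only [kMap, Category.assoc, Iso.inv_hom_id_app_assoc]
      rw [← μL_naturality]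
      simp only [← Category.assoc (tm _ _) (tm _ _), tm_comp, Category.id_comp, Category.assoc, pr]
      rw [show G.map ηZ ≫ (sqComm R S A B).hom.app Z' ≫ (DRing.restrictD ρ).map ε' = ε ≫ ηK from
        (Category.assoc _ _ _).symm.trans hcomp]
      simp only [Category.comp_id]
      rfl
    refine hl.trans ?_
    rw [evalTenAux]
    show _ = tm (tm (𝟙 N) τ) (𝟙 M) ≫ ((DTen.associator _ _ _).hom ≫ tm (𝟙 N) (ev M K)) ≫ pr
    rw [Category.assoc, ← Category.assoc (tm (tm (𝟙 N) τ) (𝟙 M)), associator_natural, Category.assoc,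
      ← Category.assoc (tm _ (tm _ _)), tm_comp, Category.id_comp, uncurry_curry]
  constructor
  · intro h
    haveI := isIso_of_isCoUniv h hδ g hg
    haveI : IsIso (tm (𝟙 N) τ ≫ evalTen N K M ≫ (RHomR R M).map pr) := by rw [← key]; infer_instance
    haveI : IsIso (evalTen N K M ≫ (RHomR R M).map pr) := IsIso.of_isIso_comp_left (tm (𝟙 N) τ) _
    exact IsIso.of_isIso_comp_right _ ((RHomR R M).map pr)
  · intro h
    haveI : IsIso (evalTen N K M) := h
    haveI : IsIso (e ≫ G.map g ≫ τ') := by rw [key]; infer_instance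
    haveI : IsIso (G.map g ≫ τ') := IsIso.of_isIso_comp_left e _
    haveI : IsIso (G.map g) := IsIso.of_isIso_comp_right _ τ'
    haveI := isIso_of_restrictD g this
    rw [← hg]
    exact IsCoUniv_precomp hδ (asIso g)

end TorIndBCLib
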