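import Groth.Agent.DTenLib.RelTensor
import Groth.Agent.TwoTermLib.MonElt

/-!
# The multiplication maps of restricted complexes, on elements
-/

set_option autoImplicit false
set_option linter.all false
set_option maxHeartbeats 1000000

universe u

open CategoryTheory CategoryTheory.Limits MonoidalCategory HomologicalComplex
open Groth.Agent DTen
open Groth.Agent.TwoTermLib
open KFlatLib (ιT)

noncomputable section

namespace TorIndBCLib

open DTenLib

variable {A B : Type u} [CommRing A] [CommRing B] (φ : A →+* B)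

/-- The restricted unit complex. -/
abbrev ru : DRing.Cx A := (resCx φ).obj (𝟙_ (DRing.Cx B))

/-- The scalar of a degree zero element of the restricted unit. -/
def sc (z : (ru φ).X 0) : B := MonElt.unit₀ (R := B) z

/-- The unit element. -/
def one : (ru φ).X 0 := MonElt.one₀ (R := B)

/-- The element with a given scalar. -/
def el (b : B) : (ru φ).X 0 := (show (𝟙_ (DRing.Cx B)).X 0 from b • MonElt.one₀ (R := B))

theorem el_add (b b' : B) : el φ (b + b') = el φ b + el φ b' := add_smul b b' (MonElt.one₀ (R := B))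

theorem el_smul (r : A) (b : B) : el φ (φ r * b) = r • el φ b := mul_smul (φ r) b (MonElt.one₀ (R := B))

theorem el_sc (z : (ru φ).X 0) : el φ (sc φ z) = z := (MonElt.eq_smul_one₀ (R := B) z).symm

theorem sc_el (b : B) : sc φ (el φ b) = b := by
  show MonElt.unit₀ (R := B) (b • MonElt.one₀) = b
  rw [map_smul]
  show b • (singleObjXSelf (ComplexShape.up ℤ) 0 (𝟙_ (ModuleCat.{u} B))).hom.hom
    ((singleObjXSelf (ComplexShape.up ℤ) 0 (𝟙_ (ModuleCat.{u} B))).inv.hom (1 : B)) = b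
  rw [← LinearMap.comp_apply, ← ModuleCat.hom_comp, Iso.inv_hom_id]
  exact mul_one b

theorem isZero_o {q : ℤ} (hq : q ≠ 0) : IsZero ((ru φ).X q) :=
  (ModuleCat.restrictScalars.{u} φ).map_isZero (MonElt.isZero_unit_X q hq)

/-- Multiplication from the right. -/
def mR (Y : DRing.Cx B) : (resCx φ).obj Y ⊗ (ru φ) ⟶ (resCx φ).obj Y :=
  resTenCx φ Y (𝟙_ (DRing.Cx B)) ≫ (resCx φ).map (ρ_ Y).hom

/-- Multiplication from the left. -/
def mL (Y : DRing.Cx B) : (ru φ) ⊗ (resCx φ).obj Y ⟶ (resCx φ).obj Y :=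
  resTenCx φ (𝟙_ (DRing.Cx B)) Y ≫ (resCx φ).map (λ_ Y).hom

theorem mR_ι (Y : DRing.Cx B) (n : ℤ) (y : ((resCx φ).obj Y).X n) (z : (ru φ).X 0) :
    ((mR φ Y).f n).hom ((ιT ((resCx φ).obj Y) (ru φ) n 0 n (add_zero n)).hom (y ⊗ₜ z)) =
      (show ((resCx φ).obj Y).X n from sc φ z • (show Y.X n from y)) := by
  let y' : Y.X n := y
  let z' : (𝟙_ (DRing.Cx B)).X 0 := z
  have h1 : ((resTenCx φ Y (𝟙_ (DRing.Cx B))).f n).hom
      ((ιT ((resCx φ).obj Y) (ru φ) n 0 n (add_zero n)).hom (y ⊗ₜ z)) =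
      (ιT Y (𝟙_ (DRing.Cx B)) n 0 n (add_zero n)).hom (y' ⊗ₜ[B] z') :=
    congr($(ι_resTenCx φ Y (𝟙_ (DRing.Cx B)) n 0 n (add_zero n)).hom (y ⊗ₜ[A] z))
  refine (congrArg (((resCx φ).map (ρ_ Y).hom).f n).hom h1).trans ?_
  show ((ρ_ Y).hom.f n).hom ((ιT Y (𝟙_ (DRing.Cx B)) n 0 n (add_zero n)).hom (y' ⊗ₜ[B] z')) = sc φ z • y'
  rw [show z' = sc φ z • MonElt.one₀ from MonElt.eq_smul_one₀ z', TensorProduct.tmul_smul, map_smul, map_smul,
    ← MonElt.rightUnitor_inv, ← LinearMap.comp_apply, ← ModuleCat.hom_comp, ← HomologicalComplex.comp_f,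
    Iso.inv_hom_id]
  rfl

theorem mL_ι (Y : DRing.Cx B) (n : ℤ) (z : (ru φ).X 0) (y : ((resCx φ).obj Y).X n) :
    ((mL φ Y).f n).hom ((ιT (ru φ) ((resCx φ).obj Y) 0 n n (zero_add n)).hom (z ⊗ₜ y)) =
      (show ((resCx φ).obj Y).X n from sc φ z • (show Y.X n from y)) := by
  let y' : Y.X n := y
  let z' : (𝟙_ (DRing.Cx B)).X 0 := z
  have h1 : ((resTenCx φ (𝟙_ (DRing.Cx B)) Y).f n).hom
      ((ιT (ru φ) ((resCx φ).obj Y) 0 n n (zero_add n)).hom (z ⊗ₜ y)) =
      (ιT (𝟙_ (DRing.Cx B)) Y 0 n n (zero_add n)).hom (z' ⊗ₜ[B] y') :=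
    congr($(ι_resTenCx φ (𝟙_ (DRing.Cx B)) Y 0 n n (zero_add n)).hom (z ⊗ₜ[A] y))
  refine (congrArg (((resCx φ).map (λ_ Y).hom).f n).hom h1).trans ?_
  show ((λ_ Y).hom.f n).hom ((ιT (𝟙_ (DRing.Cx B)) Y 0 n n (zero_add n)).hom (z' ⊗ₜ[B] y')) = sc φ z • y'
  rw [show z' = sc φ z • MonElt.one₀ from MonElt.eq_smul_one₀ z', ← TensorProduct.smul_tmul', map_smul, map_smul,
    ← MonElt.leftUnitor_inv, ← LinearMap.comp_apply, ← ModuleCat.hom_comp, ← HomologicalComplex.comp_f,
    Iso.inv_hom_id]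
  rfl

/-- Maps out of `C ⊗ o` are determined by pure tensors in the degree zero summand. -/
theorem hom_ext_right (C : DRing.Cx A) {n : ℤ} {M : ModuleCat.{u} A} (f g : (C ⊗ (ru φ)).X n ⟶ M)
    (h : ∀ (y : C.X n) (z : (ru φ).X 0), f.hom ((ιT C (ru φ) n 0 n (add_zero n)).hom (y ⊗ₜ z)) =
      g.hom ((ιT C (ru φ) n 0 n (add_zero n)).hom (y ⊗ₜ z))) : f = g := by
  refine mapBifunctor.hom_ext fun p q (hpq : p + q = n) => ModuleCat.MonoidalCategory.tensor_ext fun x z => ?_
  by_cases hq : q = 0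
  · subst hq
    obtain rfl : p = n := by omega
    exact h x z
  · haveI := ModuleCat.subsingleton_of_isZero (isZero_o φ hq)
    rw [show z = 0 from Subsingleton.elim _ _]
    simp

/-- The projection map of a termwise base change is bijective. -/
theorem isIso_unit_mR (P : DRing.Cx A) :
    IsIso (((unitCx φ).app P ⊗ₘ 𝟙 (ru φ)) ≫ mR φ ((extCx φ).obj P)) := by
  let F := ((unitCx φ).app P ⊗ₘ 𝟙 (ru φ)) ≫ mR φ ((extCx φ).obj P)
  letI : Algebra A B := φ.toAlgebra
  haveI : ∀ n, IsIso (F.f n) := fun n => by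
    refine (ConcreteCategory.isIso_iff_bijective _).2 ?_
    let u : P.X n →ₗ[A] ((resCx φ).obj ((extCx φ).obj P)).X n := (((unitCx φ).app P).f n).hom
    have hF : ∀ (x : P.X n) (z : (ru φ).X 0), (F.f n).hom ((ιT P (ru φ) n 0 n (add_zero n)).hom (x ⊗ₜ z)) =
        (show ((resCx φ).obj ((extCx φ).obj P)).X n from sc φ z • (show ((extCx φ).obj P).X n from u x)) :=
      fun x z => (congrArg ((mR φ _).f n).hom
        (MonElt.map_ι P (ru φ) ((unitCx φ).app P) (𝟙 (ru φ)) n 0 n (add_zero n) x z)).trans (mR_ι φ _ n _ z)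
    let bh : B →+ P.X n →+ (P ⊗ (ru φ)).X n :=
      AddMonoidHom.mk' (fun b => AddMonoidHom.mk'
          (fun x => (ιT P (ru φ) n 0 n (add_zero n)).hom (x ⊗ₜ[A] el φ b))
          fun x x' => (congrArg (ιT P (ru φ) n 0 n (add_zero n)).hom (TensorProduct.add_tmul x x' _)).trans
            (map_add _ _ _))
        fun b b' => AddMonoidHom.ext fun x =>
          (congrArg (ιT P (ru φ) n 0 n (add_zero n)).hom
            ((congrArg (x ⊗ₜ[A] ·) (el_add φ b b')).trans (TensorProduct.tmul_add x _ _))).trans (map_add _ _ _)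
    let G : TensorProduct A B (P.X n) →+ (P ⊗ (ru φ)).X n := TensorProduct.liftAddHom bh fun r b x => by
      show (ιT P (ru φ) n 0 n (add_zero n)).hom (x ⊗ₜ[A] el φ (φ r * b)) =
        (ιT P (ru φ) n 0 n (add_zero n)).hom ((r • x) ⊗ₜ[A] el φ b)
      exact congrArg (ιT P (ru φ) n 0 n (add_zero n)).hom
        ((congrArg (x ⊗ₜ[A] ·) (el_smul φ r b)).trans (TensorProduct.smul_tmul r x _).symm)
    have hl : ∀ t, G ((F.f n).hom t) = t := by
      intro t
      let G' : (P ⊗ (ru φ)).X n →+ (P ⊗ (ru φ)).X n := G.comp (F.f n).hom.toAddMonoidHom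
      suffices G' = AddMonoidHom.id _ from DFunLike.congr_fun this t
      refine AddMonoidHom.ext fun t => ?_
      induction t using MonElt.induction with
      | h0 => simp
      | hι p q hpq x z =>
        by_cases hq : q = 0
        · subst hq
          obtain rfl : p = n := by omega
          show G ((F.f p).hom _) = _
          rw [hF]
          show (ιT P (ru φ) p 0 p (add_zero p)).hom (x ⊗ₜ[A] el φ (sc φ z * 1)) = _
          rw [mul_one, el_sc]
          rfl
        · haveI := ModuleCat.subsingleton_of_isZero (isZero_o φ hq)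
          rw [show z = 0 from Subsingleton.elim _ _]
          simp
      | hadd a b ha hb => rw [map_add, ha, hb, map_add]
    refine ⟨fun s t h => (hl s).symm.trans ((congrArg G h).trans (hl t)), fun w => ?_⟩
    let w' : TensorProduct A B (P.X n) := w
    suffices ∀ v : TensorProduct A B (P.X n), (F.f n).hom (G v) = v from ⟨G w', this w'⟩
    intro v
    induction v using TensorProduct.induction_on with
    | zero => exact ((congrArg (F.f n).hom (map_zero G)).trans (map_zero _))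
    | tmul b x =>
      refine (hF x _).trans ?_
      rw [sc_el]
      show b • ((1 : B) ⊗ₜ[A] x) = b ⊗ₜ[A] x
      rw [TensorProduct.smul_tmul', smul_eq_mul, mul_one]
    | add v v' hv hv' =>
      exact ((congrArg (F.f n).hom (map_add G v v')).trans (map_add _ _ _)).trans (congrArg₂ (· + ·) hv hv')
  exact HomologicalComplex.Hom.isIso_of_components _

/-- The projection map from the left. -/
theorem isIso_unit_mL (P : DRing.Cx A) :
    IsIso ((𝟙 (ru φ) ⊗ₘ (unitCx φ).app P) ≫ mL φ ((extCx φ).obj P)) := by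
  haveI := isIso_prCx φ (𝟙_ (DRing.Cx B)) P
  show IsIso ((𝟙 (ru φ) ⊗ₘ (unitCx φ).app P) ≫ resTenCx φ (𝟙_ (DRing.Cx B)) ((extCx φ).obj P) ≫
    (resCx φ).map (λ_ ((extCx φ).obj P)).hom)
  rw [← Category.assoc]
  show IsIso (prCx φ (𝟙_ (DRing.Cx B)) P ≫ _)
  infer_instance

end TorIndBCLib
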