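import Groth.Agent.TorIndBCLib.Mult
import Groth.Agent.TorIndBCLib.Square
import Groth.Agent.DTenLib.Eval
import Groth.Agent.DTenLib.BCPerfectRing

/-!
# Multiplication maps on restricted objects of the derived category
-/

set_option autoImplicit false
set_option linter.all false
set_option maxHeartbeats 1000000

universe u

open CategoryTheory CategoryTheory.Limits MonoidalCategory HomologicalComplex
open Groth.Agent DTen

attribute [local instance] HasDerivedCategory.standard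

noncomputable section

namespace TorIndBCLib

open DTenLib FinDualLib Groth.Agent.DualCxLib ShriekRingLib

variable {A B : Type u} [CommRing A] [CommRing B] (φ : A →+* B) [HasLTen A]

/-- The restricted unit object. -/
abbrev rU : Dual.D A := (DRing.restrictD φ).obj (DTen.unit B)

/-- Its identification with a complex. -/
abbrev eU : rU φ ≅ DerivedCategory.Q.obj (ru φ) := (resFactors φ).app (𝟙_ (DRing.Cx B))

theorem εn {p p' q q' : DRing.Cx A} (f : p ⟶ p') (g : q ⟶ q') :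
    tm (DerivedCategory.Q.map f) (DerivedCategory.Q.map g) ≫ (ε A).app (p', q') =
      (ε A).app (p, q) ≫ DerivedCategory.Q.map (f ⊗ₘ g) := by
  rw [MonoidalCategory.tensorHom_def]
  exact (ε A).naturality (Prod.mkHom f g)

theorem εn' {p p' q q' : DRing.Cx A} (f : p ⟶ p') (g : q ⟶ q') {W : Dual.D A}
    (h : DerivedCategory.Q.obj (p' ⊗ q') ⟶ W) :
    tm (DerivedCategory.Q.map f) (DerivedCategory.Q.map g) ≫ (ε A).app (p', q') ≫ h =
      (ε A).app (p, q) ≫ DerivedCategory.Q.map (f ⊗ₘ g) ≫ h := by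
  rw [← Category.assoc, εn, Category.assoc]

theorem curry_comp [HasRHom A] {X X' L M : Dual.D A} (f : X ⟶ X') (g : (LTen₂ A).obj (X', L) ⟶ M) :
    f ≫ rhomHomEquiv X' L M g = rhomHomEquiv X L M (tm f (𝟙 L) ≫ g) :=
  ((rhomAdj A L).homEquiv_naturality_left f g).symm

theorem mR_naturality {Y Y' : DRing.Cx B} (f : Y ⟶ Y') :
    ((resCx φ).map f ⊗ₘ 𝟙 (ru φ)) ≫ mR φ Y' = mR φ Y ≫ (resCx φ).map f := by
  rw [mR, mR, ← Category.assoc, ← CategoryTheory.Functor.map_id (resCx φ) (𝟙_ (DRing.Cx B)), resTenCx_naturality,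
    Category.assoc, Category.assoc, ← Functor.map_comp, ← Functor.map_comp, MonoidalCategory.tensorHom_id,
    rightUnitor_naturality]

theorem mL_naturality {Y Y' : DRing.Cx B} (f : Y ⟶ Y') :
    (𝟙 (ru φ) ⊗ₘ (resCx φ).map f) ≫ mL φ Y' = mL φ Y ≫ (resCx φ).map f := by
  rw [mL, mL, ← Category.assoc, ← CategoryTheory.Functor.map_id (resCx φ) (𝟙_ (DRing.Cx B)), resTenCx_naturality,
    Category.assoc, Category.assoc, ← Functor.map_comp, ← Functor.map_comp, MonoidalCategory.id_tensorHom,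
    leftUnitor_naturality]

/-- Multiplication from the right, on complexes. -/
def μR₀ : (DerivedCategory.Q : DRing.Cx B ⥤ Dual.D B) ⋙ DRing.restrictD φ ⋙ tensorRightD A (rU φ) ⟶
    DerivedCategory.Q ⋙ DRing.restrictD φ where
  app Y := tm ((resFactors φ).hom.app Y) (eU φ).hom ≫ (ε A).app ((resCx φ).obj Y, ru φ) ≫
    DerivedCategory.Q.map (mR φ Y) ≫ (resFactors φ).inv.app Y
  naturality Y Y' f := by
    show tm ((DRing.restrictD φ).map (DerivedCategory.Q.map f)) (𝟙 _) ≫ _ = _ ≫ _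
    have hi : (resFactors φ).inv.app Y ≫ (DRing.restrictD φ).map (DerivedCategory.Q.map f) =
        DerivedCategory.Q.map ((resCx φ).map f) ≫ (resFactors φ).inv.app Y' :=
      ((resFactors φ).inv.naturality f).symm
    simp only [Functor.comp_map, Category.assoc]
    rw [hi, ← Category.assoc, tm_comp, resFactors_naturality, Category.id_comp, ← Functor.map_comp_assoc,
      ← mR_naturality, Functor.map_comp, Category.assoc, ← εn',
      CategoryTheory.Functor.map_id, ← Category.assoc (tm _ _) (tm _ _), tm_comp, Category.comp_id]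

/-- Multiplication from the left, on complexes. -/
def μL₀ : (DerivedCategory.Q : DRing.Cx B ⥤ Dual.D B) ⋙ DRing.restrictD φ ⋙ (LTen A).obj (rU φ) ⟶
    DerivedCategory.Q ⋙ DRing.restrictD φ where
  app Y := tm (eU φ).hom ((resFactors φ).hom.app Y) ≫ (ε A).app (ru φ, (resCx φ).obj Y) ≫
    DerivedCategory.Q.map (mL φ Y) ≫ (resFactors φ).inv.app Y
  naturality Y Y' f := by
    show tm (𝟙 _) ((DRing.restrictD φ).map (DerivedCategory.Q.map f)) ≫ _ = _ ≫ _
    have hi : (resFactors φ).inv.app Y ≫ (DRing.restrictD φ).map (DerivedCategory.Q.map f) =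
        DerivedCategory.Q.map ((resCx φ).map f) ≫ (resFactors φ).inv.app Y' :=
      ((resFactors φ).inv.naturality f).symm
    simp only [Functor.comp_map, Category.assoc]
    rw [hi, ← Category.assoc, tm_comp, resFactors_naturality, Category.id_comp, ← Functor.map_comp_assoc,
      ← mL_naturality, Functor.map_comp, Category.assoc, ← εn',
      CategoryTheory.Functor.map_id, ← Category.assoc (tm _ _) (tm _ _), tm_comp, Category.comp_id]

/-- `res Z ⊗ res 1 ⟶ res Z`. -/
def μR : DRing.restrictD φ ⋙ tensorRightD A (rU φ) ⟶ DRing.restrictD φ :=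
  Localization.liftNatTrans DerivedCategory.Q (qis B)
    (DerivedCategory.Q ⋙ DRing.restrictD φ ⋙ tensorRightD A (rU φ)) (DerivedCategory.Q ⋙ DRing.restrictD φ)
    (DRing.restrictD φ ⋙ tensorRightD A (rU φ)) (DRing.restrictD φ) (μR₀ φ)

/-- `res 1 ⊗ res Z ⟶ res Z`. -/
def μL : DRing.restrictD φ ⋙ (LTen A).obj (rU φ) ⟶ DRing.restrictD φ :=
  Localization.liftNatTrans DerivedCategory.Q (qis B)
    (DerivedCategory.Q ⋙ DRing.restrictD φ ⋙ (LTen A).obj (rU φ)) (DerivedCategory.Q ⋙ DRing.restrictD φ)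
    (DRing.restrictD φ ⋙ (LTen A).obj (rU φ)) (DRing.restrictD φ) (μL₀ φ)

theorem μR_app_Q (Y : DRing.Cx B) : (μR φ).app (DerivedCategory.Q.obj Y) ≫ (resFactors φ).hom.app Y =
    tm ((resFactors φ).hom.app Y) (eU φ).hom ≫ (ε A).app ((resCx φ).obj Y, ru φ) ≫
      DerivedCategory.Q.map (mR φ Y) := by
  dsimp [μR]
  rw [Localization.liftNatTrans_app]
  dsimp [Localization.Lifting.iso, μR₀]
  erw [Category.id_comp, Category.comp_id]
  simp only [Category.assoc]
  erw [Iso.inv_hom_id_app, Category.comp_id]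

theorem μL_app_Q (Y : DRing.Cx B) : (μL φ).app (DerivedCategory.Q.obj Y) ≫ (resFactors φ).hom.app Y =
    tm (eU φ).hom ((resFactors φ).hom.app Y) ≫ (ε A).app (ru φ, (resCx φ).obj Y) ≫
      DerivedCategory.Q.map (mL φ Y) := by
  dsimp [μL]
  rw [Localization.liftNatTrans_app]
  dsimp [Localization.Lifting.iso, μL₀]
  erw [Category.id_comp, Category.comp_id]
  simp only [Category.assoc]
  erw [Iso.inv_hom_id_app, Category.comp_id]

theorem μR_naturality {Z Z' : Dual.D B} (g : Z ⟶ Z') :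
    tm ((DRing.restrictD φ).map g) (𝟙 (rU φ)) ≫ (μR φ).app Z' = (μR φ).app Z ≫ (DRing.restrictD φ).map g :=
  (μR φ).naturality g

theorem μL_naturality {Z Z' : Dual.D B} (g : Z ⟶ Z') :
    tm (𝟙 (rU φ)) ((DRing.restrictD φ).map g) ≫ (μL φ).app Z' = (μL φ).app Z ≫ (DRing.restrictD φ).map g :=
  (μL φ).naturality g

theorem isIso_tm {a b c d : Dual.D A} (f : a ⟶ c) (g : b ⟶ d) [IsIso f] [IsIso g] : IsIso (tm f g) := by
  haveI : IsIso (Prod.mkHom f g) := (isIso_prod_iff _ _).2 ⟨inferInstance, inferInstance⟩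
  infer_instance

/-- The projection isomorphism from the right. -/
theorem isIso_projR {X : Dual.D A} {Z : Dual.D B} {η : X ⟶ (DRing.restrictD φ).obj Z} (hη : IsUniv φ η) :
    IsIso (tm η (𝟙 (rU φ)) ≫ (μR φ).app Z) := by
  obtain ⟨P, hP, ⟨e⟩⟩ := DTenLib.exists_kf_rep X
  obtain ⟨k, hk⟩ := exists_iso_univ ((isUniv_γ_kf φ hP).comp_iso e.symm (Iso.refl _)) hη
  simp only [Iso.symm_hom, Iso.refl_hom, CategoryTheory.Functor.map_id, Category.comp_id, Category.assoc] at hk
  rw [← hk, show e.inv ≫ γ φ P ≫ (DRing.restrictD φ).map k.hom =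
    e.inv ≫ (γ φ P ≫ (DRing.restrictD φ).map k.hom) from rfl, ← Category.comp_id (𝟙 (rU φ)), ← tm_comp,
    Category.assoc, ← Category.comp_id (𝟙 (rU φ)), ← tm_comp, Category.assoc, μR_naturality]
  haveI := isIso_tm e.inv (𝟙 (rU φ) ≫ 𝟙 (rU φ))
  suffices IsIso (tm (γ φ P) (𝟙 (rU φ)) ≫ (μR φ).app _) by
    haveI := this
    rw [← Category.assoc (tm (γ φ P) (𝟙 (rU φ)))]
    infer_instance
  have key : (tm (γ φ P) (𝟙 (rU φ)) ≫ (μR φ).app _) ≫ (resFactors φ).hom.app _ =
      tm (𝟙 (DerivedCategory.Q.obj P)) (eU φ).hom ≫ (ε A).app (P, ru φ) ≫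
        DerivedCategory.Q.map (((unitCx φ).app P ⊗ₘ 𝟙 (ru φ)) ≫ mR φ ((extCx φ).obj P)) := by
    rw [Category.assoc, μR_app_Q, ← Category.assoc (tm _ _) (tm _ _), tm_comp, γ, Category.assoc]
    erw [Iso.inv_hom_id_app, Category.comp_id]
    rw [Category.id_comp, Functor.map_comp, ← εn', CategoryTheory.Functor.map_id,
      ← Category.assoc (tm _ _) (tm _ _), tm_comp, Category.id_comp, Category.comp_id]
    rfl
  haveI := isIso_unit_mR φ P
  haveI := isIso_ε (A := A) P (ru φ) (Or.inl hP)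
  haveI := isIso_tm (𝟙 (DerivedCategory.Q.obj P)) (eU φ).hom
  haveI : IsIso ((tm (γ φ P) (𝟙 (rU φ)) ≫ (μR φ).app _) ≫ (resFactors φ).hom.app _) := by
    rw [key]; infer_instance
  exact IsIso.of_isIso_comp_right _ ((resFactors φ).hom.app _)

/-- The projection isomorphism from the left. -/
theorem isIso_projL {X : Dual.D A} {Z : Dual.D B} {η : X ⟶ (DRing.restrictD φ).obj Z} (hη : IsUniv φ η) :
    IsIso (tm (𝟙 (rU φ)) η ≫ (μL φ).app Z) := by
  obtain ⟨P, hP, ⟨e⟩⟩ := DTenLib.exists_kf_rep X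
  obtain ⟨k, hk⟩ := exists_iso_univ ((isUniv_γ_kf φ hP).comp_iso e.symm (Iso.refl _)) hη
  simp only [Iso.symm_hom, Iso.refl_hom, CategoryTheory.Functor.map_id, Category.comp_id, Category.assoc] at hk
  rw [← hk, show e.inv ≫ γ φ P ≫ (DRing.restrictD φ).map k.hom =
    e.inv ≫ (γ φ P ≫ (DRing.restrictD φ).map k.hom) from rfl, ← Category.comp_id (𝟙 (rU φ)), ← tm_comp,
    Category.assoc, ← Category.comp_id (𝟙 (rU φ)), ← tm_comp, Category.assoc, μL_naturality]
  haveI := isIso_tm (𝟙 (rU φ) ≫ 𝟙 (rU φ)) e.inv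
  suffices IsIso (tm (𝟙 (rU φ)) (γ φ P) ≫ (μL φ).app _) by
    haveI := this
    rw [← Category.assoc (tm (𝟙 (rU φ)) (γ φ P))]
    infer_instance
  have key : (tm (𝟙 (rU φ)) (γ φ P) ≫ (μL φ).app _) ≫ (resFactors φ).hom.app _ =
      tm (eU φ).hom (𝟙 (DerivedCategory.Q.obj P)) ≫ (ε A).app (ru φ, P) ≫
        DerivedCategory.Q.map ((𝟙 (ru φ) ⊗ₘ (unitCx φ).app P) ≫ mL φ ((extCx φ).obj P)) := by
    rw [Category.assoc, μL_app_Q, ← Category.assoc (tm _ _) (tm _ _), tm_comp, γ, Category.assoc]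
    erw [Iso.inv_hom_id_app, Category.comp_id]
    rw [Category.id_comp, Functor.map_comp, ← εn', CategoryTheory.Functor.map_id,
      ← Category.assoc (tm _ _) (tm _ _), tm_comp, Category.id_comp, Category.comp_id]
    rfl
  haveI := isIso_unit_mL φ P
  haveI := isIso_ε (A := A) (ru φ) P (Or.inr hP)
  haveI := isIso_tm (eU φ).hom (𝟙 (DerivedCategory.Q.obj P))
  haveI : IsIso ((tm (𝟙 (rU φ)) (γ φ P) ≫ (μL φ).app _) ≫ (resFactors φ).hom.app _) := by
    rw [key]; infer_instance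
  exact IsIso.of_isIso_comp_right _ ((resFactors φ).hom.app _)

/-- A couniversal object restricts to the internal Hom out of the restricted unit. -/
theorem isIso_curry_coUniv [HasRHom A] {L : Dual.D A} {W : Dual.D B} {δ : (DRing.restrictD φ).obj W ⟶ L}
    (hδ : IsCoUniv φ δ) : IsIso (rhomHomEquiv _ (rU φ) _ ((μR φ).app W ≫ δ)) := by
  have hb : ∀ X : Dual.D A, Function.Bijective fun f : X ⟶ (DRing.restrictD φ).obj W =>
      f ≫ rhomHomEquiv _ (rU φ) _ ((μR φ).app W ≫ δ) := fun X => by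
    obtain ⟨P, hP, ⟨e⟩⟩ := DTenLib.exists_kf_rep X
    obtain ⟨Z, η, hη⟩ : ∃ (Z : Dual.D B) (η : X ⟶ (DRing.restrictD φ).obj Z), IsUniv φ η :=
      ⟨_, _, (isUniv_γ_kf φ hP).comp_iso e.symm (Iso.refl _)⟩
    haveI := isIso_projR φ hη
    let p := asIso (tm η (𝟙 (rU φ)) ≫ (μR φ).app Z)
    let E : (X ⟶ (DRing.restrictD φ).obj W) ≃ (X ⟶ (RHomR A (rU φ)).obj L) :=
      (Equiv.ofBijective _ (hη W)).symm.trans
        ((Equiv.ofBijective _ (hδ _)).trans ((p.symm.homCongr (Iso.refl L)).trans (rhomHomEquiv _ _ _)))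
    convert E.bijective using 1
    funext f
    obtain ⟨g, hg⟩ := (hη W).2 f
    have hf : (Equiv.ofBijective _ (hη W)).symm f = g := by
      rw [Equiv.symm_apply_eq]
      exact hg.symm
    show _ = rhomHomEquiv _ _ _ (p.hom ≫ ((DRing.restrictD φ).map ((Equiv.ofBijective _ (hη W)).symm f) ≫ δ) ≫ 𝟙 L)
    rw [hf, curry_comp, Category.comp_id, ← hg]
    refine congrArg _ ?_
    show _ = (tm η (𝟙 (rU φ)) ≫ (μR φ).app _) ≫ _ ≫ δ
    rw [Category.assoc, ← reassoc_of% (μR_naturality φ g)]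
    show tm (η ≫ (DRing.restrictD φ).map g) (𝟙 (rU φ)) ≫ _ = _
    rw [← Category.comp_id (𝟙 (rU φ)), ← tm_comp, Category.assoc, Category.comp_id]
  exact isIso_of_yoneda_map_bijective _ hb

end TorIndBCLib
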